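import Cfsg.Agent.KFacts.PSpFourThree.Classes
import Cfsg.Agent.Lib.VonDyck

/-!
# `PSp₄(3)`: the subgroup `A₄ = Ω(345)` normal in the centraliser of the involution `π m1 = -1₁₂` (helper931)

`E4`: generated by `π m1 * z = -1₃₄` and an element of order three; `normal_E4`, `iso_E4`.
-/

set_option autoImplicit false
set_option linter.style.haveILetI false
set_option maxRecDepth 100000

namespace Cfsg.Agent.KFacts.PSpFourThree

open Matrix Subgroup Cfsg
open Cfsg.Agent.Lib.FieldThree (F3)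
open Cfsg.Agent.SmallSimple.S1000.Order25920PSp (Mat Sp π π_mul π_one π_eq m1 m2 m3 m4)
open Cfsg.Agent.OddHalf.Small.PSp43 (πh πh_apply comm_or eq_or_of_π_eq T8 exists_t8 m2_mul m21 inv_eq_of_mul
  exists_cnt_one mat_neg_one)

namespace PW

/-- the unit -/
def one : PW := ⟨T8.one, false⟩

/-- the involution `m1 m3` -/
def aa : PW := ⟨⟨.o, .m, .o, .o, .o, .o, .o, .i⟩, false⟩

/-- `d ^ 2` -/
def d2 : PW := dd.mul dd

/-- the twelve elements -/
def E12 : List PW := [one, dd, d2, aa, aa.mul dd, aa.mul d2, dd.mul aa, dd.mul (aa.mul dd), dd.mul (aa.mul d2),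
  d2.mul aa, d2.mul (aa.mul dd), d2.mul (aa.mul d2)]

/-- conjugation of the two generators -/
def cjE (p : PW) : Bool :=
  and (anyG (fun e => (p.mul aa).beqs (e.mul p)) E12) (anyG (fun e => (p.mul dd).beqs (e.mul p)) E12)

theorem cjE_check : ∀ p0 p1 q0 q1 : F3, p0 * p0 + p1 * p1 + q0 * q0 + q1 * q1 = 1 →
    ∀ r0 r1 s0 s1 : F3, r0 * r0 + r1 * r1 + s0 * s0 + s1 * s1 = 1 →
    p0 * r0 + p1 * r1 + q0 * s0 + q1 * s1 = 0 → p1 * r0 - p0 * r1 + q1 * s0 - q0 * s1 = 0 →
    (cjE ⟨⟨p0, p1, q0, q1, r0, r1, s0, s1⟩, false⟩ && cjE ⟨⟨p0, p1, q0, q1, r0, r1, s0, s1⟩, true⟩) = true := by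
  decide +kernel

theorem cjE_spec {p : PW} (h : p.x.Un) : cjE p = true := by
  obtain ⟨⟨p0, p1, q0, q1, r0, r1, s0, s1⟩, s⟩ := p
  obtain ⟨u1, u2, u3, u4⟩ := h
  have h1 := cjE_check p0 p1 q0 q1 u1 r0 r1 s0 s1 u2 u3 u4
  rw [Bool.and_eq_true] at h1
  cases s
  · exact h1.1
  · exact h1.2

/-- the generator `a` -/
noncomputable def aS : Sp := m1 * m3

theorem aS_rep : Rep aS aa := by
  show ((m1 : Sp) : Mat) * (m3 : Sp) = aa.x.mat * sw false
  rw [sf, mul_one]
  decide +kernel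

/-- the subgroup `A₄` -/
noncomputable def E4 : Subgroup (PSp 2 F3) := closure {π aS, π dS}

theorem a_mem : π aS ∈ E4 := subset_closure (Or.inl rfl)
theorem d_mem : π dS ∈ E4 := subset_closure (Or.inr rfl)

/-- represented in `E4` -/
def In (p : PW) : Prop := ∃ g : Sp, Rep g p ∧ π g ∈ E4

theorem In.mul {p q : PW} (hp : In p) (hq : In q) : In (p.mul q) := by
  obtain ⟨g, hg, hg'⟩ := hp
  obtain ⟨h, hh, hh'⟩ := hq
  exact ⟨g * h, hg.mul hh, mul_mem hg' hh'⟩

theorem one_rep : Rep 1 one := by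
  show (1 : Mat) = T8.one.mat * sw false
  rw [sf, mul_one, T8.mat_one]

theorem In.one : In one := ⟨1, one_rep, one_mem _⟩

theorem in_E12 {e : PW} (he : e ∈ E12) : In e := by
  have h1 : In one := In.one
  have hd : In dd := ⟨dS, dS_rep, d_mem⟩
  have ha : In aa := ⟨aS, aS_rep, a_mem⟩
  have hd2 : In d2 := hd.mul hd
  simp only [E12, List.mem_cons, List.not_mem_nil, or_false] at he
  rcases he with rfl | rfl | rfl | rfl | rfl | rfl | rfl | rfl | rfl | rfl | rfl | rfl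
  · exact h1
  · exact hd
  · exact hd2
  · exact ha
  · exact ha.mul hd
  · exact ha.mul hd2
  · exact hd.mul ha
  · exact hd.mul (ha.mul hd)
  · exact hd.mul (ha.mul hd2)
  · exact hd2.mul ha
  · exact hd2.mul (ha.mul hd)
  · exact hd2.mul (ha.mul hd2)

/-- conjugates -/
theorem conj_mem {g h : Sp} {p q : PW} (hg : Rep g p) (hh : Rep h q)
    (hc : anyG (fun e => (p.mul q).beqs (e.mul p)) E12 = true) : π g * π h * (π g)⁻¹ ∈ E4 := by
  rw [anyG_iff] at hc
  obtain ⟨e, he, h1⟩ := hc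
  obtain ⟨f, hf, hfE⟩ := in_E12 he
  have h2 : π (g * h) = π (f * g) := by
    have e1 : ((g * h : Sp) : Mat) = (p.mul q).mat := hg.mul hh
    have e2 : ((f * g : Sp) : Mat) = (e.mul p).mat := hf.mul hg
    unfold beqs at h1
    rw [Bool.or_eq_true, beq_iff, beq_iff] at h1
    refine π_eq ?_
    rcases h1 with h | h
    · left; rw [e1, e2, h]
    · right; rw [e1, e2, h, mat_neg]
  rw [π_mul, π_mul] at h2
  rw [h2, mul_inv_cancel_right]
  exact hfE

/-- `E4` is normal in `C(π m1)` -/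
theorem normal_E4 {g : PSp 2 F3} (hg : g * π m1 = π m1 * g) {e : PSp 2 F3} (he : e ∈ E4) : g * e * g⁻¹ ∈ E4 := by
  obtain ⟨g, rfl⟩ := QuotientGroup.mk_surjective g
  have hg' : π g * π m1 = π m1 * π g := hg
  obtain ⟨p, hu, hr⟩ := exists_rep hg'
  have hc := cjE_spec hu
  unfold cjE at hc
  rw [Bool.and_eq_true] at hc
  have h1 : E4 ≤ E4.comap (MulAut.conj (π g)).toMonoidHom := by
    unfold E4
    rw [closure_le]
    rintro x (rfl | rfl)
    · exact conj_mem hr aS_rep hc.1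
    · exact conj_mem hr dS_rep hc.2
  exact h1 he

theorem aS_comm : π aS * π m1 = π m1 * π aS := by
  rw [← π_mul, ← π_mul]
  refine π_eq (Or.inl ?_)
  show ((m1 : Sp) : Mat) * (m3 : Sp) * (m1 : Sp) = (m1 : Sp) * (((m1 : Sp) : Mat) * (m3 : Sp))
  decide +kernel

theorem E4_le : E4 ≤ centralizer ({π m1} : Set (PSp 2 F3)) := by
  unfold E4
  rw [closure_le]
  rintro x (rfl | rfl)
  · exact mem_centralizer_singleton_iff.2 aS_comm
  · exact mem_centralizer_singleton_iff.2 dS_comm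

theorem Rep.eq_of {g h : Sp} {p q : PW} (hg : Rep g p) (hh : Rep h q) (hb : p.beqs q = true) : π g = π h := by
  have e1 : (g : Mat) = p.mat := hg
  have e2 : (h : Mat) = q.mat := hh
  unfold beqs at hb
  rw [Bool.or_eq_true, beq_iff, beq_iff] at hb
  refine π_eq ?_
  rcases hb with h | h
  · left; rw [e1, e2, h]
  · right; rw [e1, e2, h, mat_neg]

theorem iso_E4 : Nonempty (↥E4 ≃* ↥(alternatingGroup (Fin 4))) := by
  refine Lib.VonDyck.closure_equiv_alternatingFour ?_ ?_ ?_ ?_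
  · rw [pow_two, ← π_mul, ← π_one]
    exact (aS_rep.mul aS_rep).eq_of one_rep (by decide +kernel)
  · rw [pow_succ, pow_two, ← π_mul, ← π_mul, ← π_one]
    exact ((dS_rep.mul dS_rep).mul dS_rep).eq_of one_rep (by decide +kernel)
  · rw [pow_succ, pow_two, ← π_mul, ← π_mul, ← π_mul, ← π_one]
    exact (((aS_rep.mul dS_rep).mul (aS_rep.mul dS_rep)).mul (aS_rep.mul dS_rep)).eq_of one_rep (by decide +kernel)
  · refine Cfsg.Agent.SmallSimple.S1000.Order25920PSp.π_ne_one ?_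
    show ∀ a : F3, ((m1 : Sp) : Mat) * (m3 : Sp) ≠ a • 1
    decide +kernel

end PW

end Cfsg.Agent.KFacts.PSpFourThree
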