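import Cfsg.Agent.KFacts.PSpFourThree.Chk
import Cfsg.Agent.OddHalf.D6.QThree.Facts
import Cfsg.Agent.LieClassical.SympCount

/-!
# `PSp₄(3)`: the centraliser of a 2-central involution (helper931)

All fields of `Facts.Three` for `K = PSp 2 F3` except `classes` (file `Classes`).
-/

set_option autoImplicit false
set_option linter.style.haveILetI false
set_option maxRecDepth 100000

namespace Cfsg.Agent.KFacts.PSpFourThree

open Matrix Subgroup Cfsg
open Cfsg.Agent.Lib.FieldThree (F3)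
open Cfsg.Agent.SmallSimple.S1000.Order25920PSp (Mat Sp π π_mul π_one π_eq m1 m2 m3 m4)
open Cfsg.Agent.OddHalf.Small.PSp43 (πh πh_apply comm_or eq_or_of_π_eq)
open Cfsg.Agent.OddHalf.D6.QThree.Facts

namespace PE

/-! ### Reflection -/

/-- the involution `z` -/
noncomputable def z : PSp 2 F3 := zz.el

theorem eq_el {p q : PE} (hp : p.Ok) (hq : q.Ok) (h : p.beqs q = true) : p.el = q.el := (el_eq_iff hp hq).2 h

theorem el_eq_one {p : PE} (hp : p.Ok) : p.el = 1 ↔ isOne p = true := by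
  rw [← el_one]; exact el_eq_iff hp ok_one

theorem comm_iff {p q : PE} (hp : p.Ok) (hq : q.Ok) : p.el * q.el = q.el * p.el ↔ cmt p q = true := by
  rw [← el_mul hp hq, ← el_mul hq hp]
  exact el_eq_iff (hp.mul hq) (hq.mul hp)

theorem ok_p8 {p : PE} (hp : p.Ok) : p.p8.Ok :=
  ((hp.mul hp).mul (hp.mul hp)).mul ((hp.mul hp).mul (hp.mul hp))

theorem el_p8 {p : PE} (hp : p.Ok) : p.p8.el = p.el ^ 8 := by
  have h2 := hp.mul hp
  have h4 := h2.mul h2
  unfold p8
  rw [el_mul h4 h4, el_mul h2 h2, el_mul hp hp]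
  simp only [pow_succ, pow_zero, one_mul, mul_assoc]

theorem ok_cj {d p : PE} (hd : d.Ok) (hp : p.Ok) : (cj d p).Ok := (hd.mul hp).mul hd.inv

theorem el_cj {d p : PE} (hd : d.Ok) (hp : p.Ok) : (cj d p).el = d.el * p.el * d.el⁻¹ := by
  unfold cj
  rw [el_mul (hd.mul hp) hd.inv, el_mul hd hp, el_inv hd]

theorem z_comm {p : PE} (hp : p.Ok) : p.el * z = z * p.el := comm_zz hp

theorem exists_el {g : PSp 2 F3} (h : g * z = z * g) : ∃ p : PE, p.Ok ∧ g = p.el := exists_pe h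

theorem det_one : M2.one.det = 1 := by decide
theorem inQ_one : inQ M2.one = true := by decide

theorem ok_r1 : r1.Ok := ⟨by decide, by decide⟩
theorem ok_r2 : r2.Ok := ⟨by decide, by decide⟩
theorem ok_r3 : r3.Ok := ⟨by decide, by decide⟩
theorem ok_r4 : r4.Ok := ⟨by decide, by decide⟩
theorem ok_d1 : d1.Ok := ⟨by decide, by decide⟩

theorem z_mul_z : z * z = 1 := by
  unfold z
  rw [← el_mul ok_zz ok_zz, el_eq_one (ok_zz.mul ok_zz)]
  decide

theorem z_ne : z ≠ 1 := by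
  intro h
  exact absurd ((el_eq_one ok_zz).1 h) (by decide)

/-! ### The group `R` -/

theorem inR_iff (p : PE) : inR p = true ↔ inQ p.x = true ∧ inQ p.y = true ∧ p.s = false := by
  unfold inR
  rw [Bool.and_eq_true, Bool.and_eq_true, Bool.not_eq_true']

theorem inQ_mul {x y : M2} (hx : x.det = 1) (hy : y.det = 1) (h1 : inQ x = true) (h2 : inQ y = true) :
    inQ (x.mul y) = true := by
  have h := (allG_iff _ _).1 ((allG_iff _ _).1 inR_mul_check x (mem_slL hx)) y (mem_slL hy)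
  rw [h1, h2] at h
  exact h

theorem inQ_inv {x : M2} (hx : x.det = 1) (h1 : inQ x = true) : inQ x.inv = true := by
  have h := (allG_iff _ _).1 inQ_inv_check x (mem_slL hx)
  rw [h1] at h
  exact h

theorem inQ_neg {x : M2} (hx : x.det = 1) (h1 : inQ x = true) : inQ x.neg = true := by
  have h := (allG_iff _ _).1 inQ_neg_check x (mem_slL hx)
  rw [h1] at h
  exact h

theorem inQ_conj {x y : M2} (hx : x.det = 1) (hy : y.det = 1) (h1 : inQ y = true) :
    inQ ((x.mul y).mul x.inv) = true := by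
  have h := (allG_iff _ _).1 ((allG_iff _ _).1 inQ_conj_check x (mem_slL hx)) y (mem_slL hy)
  rw [h1] at h
  exact h

/-- `R = Q₈ * Q₈` -/
noncomputable def R : Subgroup (PSp 2 F3) where
  carrier := {g | ∃ p : PE, p.Ok ∧ inR p = true ∧ g = p.el}
  one_mem' := ⟨one, ok_one, by decide, el_one.symm⟩
  mul_mem' := by
    rintro _ _ ⟨p, hp, h1, rfl⟩ ⟨q, hq, h2, rfl⟩
    rw [inR_iff] at h1 h2
    refine ⟨p.mul q, hp.mul hq, ?_, (el_mul hp hq).symm⟩
    obtain ⟨x, y, s⟩ := p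
    obtain ⟨h11, h12, h13⟩ := h1
    obtain ⟨h21, h22, h23⟩ := h2
    have hs : s = false := h13
    subst hs
    rw [inR_iff]
    exact ⟨inQ_mul hp.1 hq.1 h11 h21, inQ_mul hp.2 hq.2 h12 h22, h23⟩
  inv_mem' := by
    rintro _ ⟨p, hp, h1, rfl⟩
    rw [inR_iff] at h1
    refine ⟨p.inv, hp.inv, ?_, (el_inv hp).symm⟩
    obtain ⟨x, y, s⟩ := p
    obtain ⟨h11, h12, h13⟩ := h1
    have hs : s = false := h13
    subst hs
    rw [inR_iff]
    exact ⟨inQ_inv hp.1 h11, inQ_inv hp.2 h12, rfl⟩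

theorem mem_R {p : PE} (hp : p.Ok) : p.el ∈ R ↔ inR p = true := by
  constructor
  · rintro ⟨q, hq, h1, h2⟩
    rw [inR_iff] at h1
    have h3 := (el_eq_iff hp hq).1 h2
    unfold beqs at h3
    rw [Bool.or_eq_true, beq_iff, beq_iff] at h3
    rcases h3 with rfl | rfl
    · rw [inR_iff]; exact h1
    · rw [inR_iff]
      exact ⟨inQ_neg hq.1 h1.1, inQ_neg hq.2 h1.2.1, h1.2.2⟩
  · intro h
    exact ⟨p, hp, h, rfl⟩

theorem R_comm {r : PSp 2 F3} (hr : r ∈ R) : r * z = z * r := by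
  obtain ⟨p, hp, -, rfl⟩ := hr
  exact z_comm hp

theorem R_norm {g : PSp 2 F3} (hg : g * z = z * g) {r : PSp 2 F3} (hr : r ∈ R) : g * r * g⁻¹ ∈ R := by
  obtain ⟨d, hd, rfl⟩ := exists_el hg
  obtain ⟨p, hp, h1, rfl⟩ := hr
  rw [← el_cj hd hp, mem_R (ok_cj hd hp)]
  rw [inR_iff] at h1
  obtain ⟨x, y, s⟩ := p
  obtain ⟨a, b, t⟩ := d
  obtain ⟨h11, h12, h13⟩ := h1
  have hs : s = false := h13
  subst hs
  rw [inR_iff]
  cases t
  · exact ⟨inQ_conj hd.1 hp.1 h11, inQ_conj hd.2 hp.2 h12, rfl⟩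
  · exact ⟨inQ_conj hd.1 hp.2 h12, inQ_conj hd.2 hp.1 h11, rfl⟩

theorem R_pow {r : PSp 2 F3} (hr : r ∈ R) : r ^ 8 = 1 := by
  obtain ⟨p, hp, h1, rfl⟩ := hr
  have h := allPE_spec R8_check hp
  rw [h1] at h
  rw [← el_p8 hp, el_eq_one (ok_p8 hp)]
  exact h

theorem isPGroup_R : IsPGroup 2 R := by
  rintro ⟨r, hr⟩
  exact ⟨3, Subtype.ext (R_pow hr)⟩

/-- elements of 2-groups in `P` have order dividing eight -/
theorem pow_eight {N : Subgroup (PSp 2 F3)} (hN : IsPGroup 2 N) {n : PSp 2 F3} (hn : n ∈ N) (hz : n * z = z * n) :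
    n ^ 8 = 1 := by
  obtain ⟨p, hp, rfl⟩ := exists_el hz
  have h24 : p.el ^ 24 = 1 := by
    have h := allPE_spec exp_check hp
    have h8 := ok_p8 hp
    rw [← el_eq_one ((h8.mul h8).mul h8), el_mul (h8.mul h8) h8, el_mul h8 h8, el_p8 hp, ← pow_add, ← pow_add] at h
    exact h
  obtain ⟨k, hk⟩ := hN ⟨_, hn⟩
  have hk' : p.el ^ 2 ^ k = 1 := congrArg Subtype.val hk
  have h1 : orderOf p.el ∣ 2 ^ k := orderOf_dvd_of_pow_eq_one hk'
  have h2 : orderOf p.el ∣ 24 := orderOf_dvd_of_pow_eq_one h24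
  obtain ⟨j, hj, hj'⟩ := (Nat.dvd_prime_pow Nat.prime_two).1 h1
  rw [hj'] at h2
  have h3 : j ≤ 3 := by
    by_contra hcon
    push Not at hcon
    have h4 : (2 : ℕ) ^ 4 ∣ 24 := (pow_dvd_pow 2 hcon).trans h2
    omega
  apply orderOf_dvd_iff_pow_eq_one.1
  rw [hj', show (8 : ℕ) = 2 ^ 3 from rfl]
  exact pow_dvd_pow 2 h3

theorem max_R (N : Subgroup (PSp 2 F3)) (hN : IsPGroup 2 N) (h1 : ∀ n ∈ N, n * z = z * n)
    (h2 : ∀ g, g * z = z * g → ∀ n ∈ N, g * n * g⁻¹ ∈ N) : N ≤ R := by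
  intro n hn
  obtain ⟨p, hp, rfl⟩ := exists_el (h1 n hn)
  have h := allPE_spec max_check hp
  rw [Bool.or_eq_true, Bool.or_eq_true, Bool.not_eq_true', Bool.not_eq_true'] at h
  rcases h with h | h | h
  · exact (mem_R hp).2 h
  · exfalso
    have h3 := pow_eight hN hn (h1 _ hn)
    rw [← el_p8 hp, el_eq_one (ok_p8 hp), h] at h3
    exact Bool.false_ne_true h3
  · exfalso
    have hm := hp.mul (ok_cj ok_d1 hp)
    have h4 : (p.mul (cj d1 p)).el ∈ N := by
      rw [el_mul hp (ok_cj ok_d1 hp), el_cj ok_d1 hp]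
      exact mul_mem hn (h2 _ (z_comm ok_d1) _ hn)
    have h3 := pow_eight hN h4 (h1 _ h4)
    rw [← el_p8 hm, el_eq_one (ok_p8 hm), h] at h3
    exact Bool.false_ne_true h3

theorem cent_R (g : PSp 2 F3) (hg : g * z = z * g) (h : ∀ r ∈ R, g * r = r * g) : g = 1 ∨ g = z := by
  obtain ⟨p, hp, rfl⟩ := exists_el hg
  have h1 := allPE_spec cR_check hp
  have key : ∀ q : PE, q.Ok → inR q = true → cmt p q = true := fun q hq hR =>
    (comm_iff hp hq).1 (h _ ((mem_R hq).2 hR))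
  rw [key r1 ok_r1 (by decide), key r2 ok_r2 (by decide), key r3 ok_r3 (by decide), key r4 ok_r4 (by decide)] at h1
  have h2 : (p.beqs one || p.beqs zz) = true := h1
  rw [Bool.or_eq_true] at h2
  rcases h2 with h2 | h2
  · left; rw [← el_one]; exact eq_el hp ok_one h2
  · right; exact eq_el hp ok_zz h2

theorem ok_pairs : ∀ d ∈ pairs, d.1.Ok ∧ d.2.Ok := by
  unfold Ok
  decide +kernel

theorem mem_of_hit {N : Subgroup (PSp 2 F3)} (h2 : ∀ g, g * z = z * g → ∀ n ∈ N, g * n * g⁻¹ ∈ N) (hzN : z ∈ N)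
    {n g : PE} (hn : n.Ok) (hg : g.Ok) (hnN : n.el ∈ N) (h : hit n g = true) : g.el ∈ N := by
  unfold hit at h
  rw [anyG_iff] at h
  obtain ⟨d, hd, h3⟩ := h
  obtain ⟨hd1, hd2⟩ := ok_pairs d hd
  have hw : ((cj d.1 n).mul (cj d.2 n)).Ok := (ok_cj hd1 hn).mul (ok_cj hd2 hn)
  have hwN : ((cj d.1 n).mul (cj d.2 n)).el ∈ N := by
    rw [el_mul (ok_cj hd1 hn) (ok_cj hd2 hn), el_cj hd1 hn, el_cj hd2 hn]
    exact mul_mem (h2 _ (z_comm hd1) _ hnN) (h2 _ (z_comm hd2) _ hnN)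
  have h4 : (((cj d.1 n).mul (cj d.2 n)).beqs g || ((cj d.1 n).mul (cj d.2 n)).beqs (g.mul zz)) = true := h3
  rw [Bool.or_eq_true] at h4
  rcases h4 with h4 | h4
  · rw [← eq_el hw hg h4]; exact hwN
  · have h5 := eq_el hw (hg.mul ok_zz) h4
    rw [el_mul hg ok_zz] at h5
    have h6 : g.el = ((cj d.1 n).mul (cj d.2 n)).el * z := by
      rw [h5, mul_assoc]
      show _ = g.el * (z * z)
      rw [z_mul_z, mul_one]
    rw [h6]
    exact mul_mem hwN hzN

theorem R_le {N : Subgroup (PSp 2 F3)} (hz : z ∈ N) (h1 : r1.el ∈ N) (h2 : r2.el ∈ N) (h3 : r3.el ∈ N)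
    (h4 : r4.el ∈ N) : R ≤ N := by
  rintro _ ⟨p, hp, hR, rfl⟩
  rw [inR_iff] at hR
  obtain ⟨x, y, s⟩ := p
  obtain ⟨hx, hy, hs⟩ := hR
  have hs' : s = false := hs
  subst hs'
  have hxd : x.det = 1 := hp.1
  have hyd : y.det = 1 := hp.2
  have cx := (allG_iff _ _).1 genR_check x (mem_slL hxd)
  have cy := (allG_iff _ _).1 genR_check y (mem_slL hyd)
  have hx' : inQ x = true := hx
  have hy' : inQ y = true := hy
  rw [hx'] at cx
  rw [hy'] at cy
  have cx2 := (Bool.and_eq_true _ _ ▸ cx : _ ∧ _).1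
  have cy2 := (Bool.and_eq_true _ _ ▸ cy : _ ∧ _).2
  rw [anyG_iff] at cx2 cy2
  have hox : (PE.mk x M2.one false).Ok := ⟨hxd, det_one⟩
  have hoy : (PE.mk M2.one y false).Ok := ⟨det_one, hyd⟩
  have e : (PE.mk x y false) = (PE.mk x M2.one false).mul (PE.mk M2.one y false) := by
    show _ = (⟨x.mul M2.one, M2.one.mul y, false⟩ : PE)
    rw [M2_mul_one, M2_one_mul]
  rw [e, el_mul hox hoy]
  have hz' : zz.el ∈ N := hz
  refine mul_mem ?_ ?_
  · obtain ⟨w, hw, hw2⟩ := cx2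
    have key : w.Ok ∧ w.el ∈ N := by
      simp only [List.mem_cons, List.not_mem_nil, or_false] at hw
      rcases hw with rfl | rfl | rfl | rfl | rfl | rfl | rfl | rfl
      · exact ⟨ok_one, by rw [el_one]; exact one_mem _⟩
      · exact ⟨ok_r1, h1⟩
      · exact ⟨ok_r2, h2⟩
      · exact ⟨ok_r1.mul ok_r2, by rw [el_mul ok_r1 ok_r2]; exact mul_mem h1 h2⟩
      · exact ⟨ok_zz, hz'⟩
      · exact ⟨ok_r1.mul ok_zz, by rw [el_mul ok_r1 ok_zz]; exact mul_mem h1 hz'⟩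
      · exact ⟨ok_r2.mul ok_zz, by rw [el_mul ok_r2 ok_zz]; exact mul_mem h2 hz'⟩
      · exact ⟨(ok_r1.mul ok_r2).mul ok_zz, by
          rw [el_mul (ok_r1.mul ok_r2) ok_zz, el_mul ok_r1 ok_r2]; exact mul_mem (mul_mem h1 h2) hz'⟩
    rw [eq_el hox key.1 hw2]; exact key.2
  · obtain ⟨w, hw, hw2⟩ := cy2
    have key : w.Ok ∧ w.el ∈ N := by
      simp only [List.mem_cons, List.not_mem_nil, or_false] at hw
      rcases hw with rfl | rfl | rfl | rfl | rfl | rfl | rfl | rfl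
      · exact ⟨ok_one, by rw [el_one]; exact one_mem _⟩
      · exact ⟨ok_r3, h3⟩
      · exact ⟨ok_r4, h4⟩
      · exact ⟨ok_r3.mul ok_r4, by rw [el_mul ok_r3 ok_r4]; exact mul_mem h3 h4⟩
      · exact ⟨ok_zz, hz'⟩
      · exact ⟨ok_r3.mul ok_zz, by rw [el_mul ok_r3 ok_zz]; exact mul_mem h3 hz'⟩
      · exact ⟨ok_r4.mul ok_zz, by rw [el_mul ok_r4 ok_zz]; exact mul_mem h4 hz'⟩
      · exact ⟨(ok_r3.mul ok_r4).mul ok_zz, by
          rw [el_mul (ok_r3.mul ok_r4) ok_zz, el_mul ok_r3 ok_r4]; exact mul_mem (mul_mem h3 h4) hz'⟩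
    rw [eq_el hoy key.1 hw2]; exact key.2

/-- `P` is irreducible on `R / ⟨z⟩` -/
theorem irr (N : Subgroup (PSp 2 F3)) (hN : N ≤ R) (h2 : ∀ g, g * z = z * g → ∀ n ∈ N, g * n * g⁻¹ ∈ N) :
    (∀ n ∈ N, n = 1 ∨ n = z) ∨ N = R := by
  by_cases hall : ∀ n ∈ N, n = 1 ∨ n = z
  · exact Or.inl hall
  right
  push Not at hall
  obtain ⟨n, hn, hn1, hnz⟩ := hall
  obtain ⟨p, hp, hR, rfl⟩ := hN hn
  rw [inR_iff] at hR
  obtain ⟨x, y, s⟩ := p
  obtain ⟨hx, hy, hs⟩ := hR
  have hs' : s = false := hs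
  subst hs'
  have hx' : inQ x = true := hx
  have hy' : inQ y = true := hy
  have c1 := (allG_iff _ _).1 ((allG_iff _ _).1 irr_check x (mem_slL hp.1)) y (mem_slL hp.2)
  have c2 := (allG_iff _ _).1 ((allG_iff _ _).1 comm_check x (mem_slL hp.1)) y (mem_slL hp.2)
  rw [hx', hy'] at c1 c2
  have n1 : (PE.mk x y false).beqs one = false := by
    rw [Bool.eq_false_iff]
    intro h
    exact hn1 ((el_eq_one hp).2 h)
  have nz : (PE.mk x y false).beqs zz = false := by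
    rw [Bool.eq_false_iff]
    intro h
    exact hnz (eq_el hp ok_zz h)
  have c1' : ((hit (PE.mk x y false) r1 && hit (PE.mk x y false) r2) && (hit (PE.mk x y false) r3 &&
      hit (PE.mk x y false) r4)) = true := by
    have h : (false || (((PE.mk x y false).beqs one || (PE.mk x y false).beqs zz) ||
      ((hit (PE.mk x y false) r1 && hit (PE.mk x y false) r2) && (hit (PE.mk x y false) r3 &&
      hit (PE.mk x y false) r4)))) = true := c1
    rw [n1, nz] at h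
    exact h
  have c2' : anyG (fun r => (((PE.mk x y false).mul (r.mul (PE.mk x y false))).mul r.inv).beqs
      ((PE.mk x y false).mul ((PE.mk x y false).mul zz))) [r1, r2, r3, r4] = true := by
    have h : (false || (((PE.mk x y false).beqs one || (PE.mk x y false).beqs zz) ||
      anyG (fun r => (((PE.mk x y false).mul (r.mul (PE.mk x y false))).mul r.inv).beqs
      ((PE.mk x y false).mul ((PE.mk x y false).mul zz))) [r1, r2, r3, r4])) = true := c2
    rw [n1, nz] at h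
    exact h
  -- `z ∈ N`
  have hzN : z ∈ N := by
    rw [anyG_iff] at c2'
    obtain ⟨r, hr, h3⟩ := c2'
    have hrO : r.Ok := by
      simp only [List.mem_cons, List.not_mem_nil, or_false] at hr
      rcases hr with rfl | rfl | rfl | rfl
      · exact ok_r1
      · exact ok_r2
      · exact ok_r3
      · exact ok_r4
    have h4 := eq_el ((hp.mul (hrO.mul hp)).mul hrO.inv) (hp.mul (hp.mul ok_zz)) h3
    rw [el_mul (hp.mul (hrO.mul hp)) hrO.inv, el_mul hp (hrO.mul hp), el_mul hrO hp, el_inv hrO,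
      el_mul hp (hp.mul ok_zz), el_mul hp ok_zz] at h4
    have h5 : z = ((PE.mk x y false).el)⁻¹ * (((PE.mk x y false).el)⁻¹ *
        ((PE.mk x y false).el * (r.el * (PE.mk x y false).el * (r.el)⁻¹))) := by
      have h6 : (PE.mk x y false).el * (r.el * (PE.mk x y false).el * (r.el)⁻¹) =
          (PE.mk x y false).el * ((PE.mk x y false).el * zz.el) := by
        rw [← h4]; simp only [mul_assoc]
      rw [h6, inv_mul_cancel_left, inv_mul_cancel_left]
      rfl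
    rw [h5]
    exact mul_mem (inv_mem hn) (mul_mem (inv_mem hn) (mul_mem hn (h2 _ (z_comm hrO) _ hn)))
  rw [Bool.and_eq_true, Bool.and_eq_true, Bool.and_eq_true] at c1'
  obtain ⟨⟨k1, k2⟩, k3, k4⟩ := c1'
  exact le_antisymm hN (R_le hzN (mem_of_hit h2 hzN hp ok_r1 hn k1) (mem_of_hit h2 hzN hp ok_r2 hn k2)
    (mem_of_hit h2 hzN hp ok_r3 hn k3) (mem_of_hit h2 hzN hp ok_r4 hn k4))

theorem ab (B : Subgroup (PSp 2 F3)) (hB : B ≤ R) (hab : ∀ a ∈ B, ∀ b ∈ B, a * b = b * a)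
    (h2 : ∀ g, g * z = z * g → ∀ n ∈ B, g * n * g⁻¹ ∈ B) : ∀ b ∈ B, b = 1 ∨ b = z := by
  rcases irr B hB h2 with h | h
  · exact h
  · exfalso
    have h3 := hab r1.el (by rw [h]; exact (mem_R ok_r1).2 (by decide)) r2.el
      (by rw [h]; exact (mem_R ok_r2).2 (by decide))
    exact absurd ((comm_iff ok_r1 ok_r2).1 h3) (by decide)

/-! ### `D = O²(P)` -/

/-- the subgroup generated by the elements of odd order of `P` -/
noncomputable def DD : Subgroup (PSp 2 F3) := closure {x : PSp 2 F3 | x * z = z * x ∧ Odd (orderOf x)}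

theorem mem_DD_of_three {p : PE} (hp : p.Ok) (h : ((p.mul p).mul p).beqs one = true) : p.el ∈ DD := by
  refine subset_closure ⟨z_comm hp, ?_⟩
  have h1 := eq_el ((hp.mul hp).mul hp) ok_one h
  rw [el_mul (hp.mul hp) hp, el_mul hp hp, el_one] at h1
  have h2 : p.el ^ 3 = 1 := by rw [pow_succ, pow_two]; exact h1
  have h3 : orderOf p.el ∣ 3 := orderOf_dvd_of_pow_eq_one h2
  rcases (Nat.dvd_prime Nat.prime_three).1 h3 with e | e
  · rw [e]; exact odd_one
  · rw [e]; decide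

theorem mem_DD_x {x : M2} (hx : x.det = 1) : (PE.mk x M2.one false).el ∈ DD := by
  have h := (allG_iff _ _).1 gen_check x (mem_slL hx)
  rw [anyG_iff] at h
  obtain ⟨a, ha, h⟩ := h
  rw [anyG_iff] at h
  obtain ⟨b, hb, h⟩ := h
  rw [anyG_iff] at h
  obtain ⟨c, hc, h⟩ := h
  rw [M2.beq_iff] at h
  have key : ∀ a ∈ L9, (PE.mk a M2.one false).Ok ∧ (PE.mk a M2.one false).el ∈ DD := by
    intro a ha
    have h1 := (allG_iff _ _).1 L9_check a ha
    rw [Bool.and_eq_true, M2.beq_iff, eq3_iff] at h1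
    have h2 : (PE.mk a M2.one false).Ok := ⟨h1.2, det_one⟩
    refine ⟨h2, mem_DD_of_three h2 ?_⟩
    show (PE.mk ((a.mul a).mul a) ((M2.one.mul M2.one).mul M2.one) false).beqs one = true
    rw [h1.1]
    decide
  obtain ⟨a1, a2⟩ := key a ha
  obtain ⟨b1, b2⟩ := key b hb
  obtain ⟨c1, c2⟩ := key c hc
  have e : (PE.mk x M2.one false) = ((PE.mk a M2.one false).mul (PE.mk b M2.one false)).mul (PE.mk c M2.one false) := by
    show _ = PE.mk ((a.mul b).mul c) ((M2.one.mul M2.one).mul M2.one) false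
    rw [h]
    rfl
  rw [e, el_mul (a1.mul b1) c1, el_mul a1 b1]
  exact mul_mem (mul_mem a2 b2) c2

theorem mem_DD_y {x : M2} (hx : x.det = 1) : (PE.mk M2.one x false).el ∈ DD := by
  have h := (allG_iff _ _).1 gen_check x (mem_slL hx)
  rw [anyG_iff] at h
  obtain ⟨a, ha, h⟩ := h
  rw [anyG_iff] at h
  obtain ⟨b, hb, h⟩ := h
  rw [anyG_iff] at h
  obtain ⟨c, hc, h⟩ := h
  rw [M2.beq_iff] at h
  have key : ∀ a ∈ L9, (PE.mk M2.one a false).Ok ∧ (PE.mk M2.one a false).el ∈ DD := by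
    intro a ha
    have h1 := (allG_iff _ _).1 L9_check a ha
    rw [Bool.and_eq_true, M2.beq_iff, eq3_iff] at h1
    have h2 : (PE.mk M2.one a false).Ok := ⟨det_one, h1.2⟩
    refine ⟨h2, mem_DD_of_three h2 ?_⟩
    show (PE.mk ((M2.one.mul M2.one).mul M2.one) ((a.mul a).mul a) false).beqs one = true
    rw [h1.1]
    decide
  obtain ⟨a1, a2⟩ := key a ha
  obtain ⟨b1, b2⟩ := key b hb
  obtain ⟨c1, c2⟩ := key c hc
  have e : (PE.mk M2.one x false) = ((PE.mk M2.one a false).mul (PE.mk M2.one b false)).mul (PE.mk M2.one c false) := by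
    show _ = PE.mk ((M2.one.mul M2.one).mul M2.one) ((a.mul b).mul c) false
    rw [h]
    rfl
  rw [e, el_mul (a1.mul b1) c1, el_mul a1 b1]
  exact mul_mem (mul_mem a2 b2) c2

theorem mem_DD {p : PE} (hp : p.Ok) (hs : p.s = false) : p.el ∈ DD := by
  obtain ⟨x, y, s⟩ := p
  have hs' : s = false := hs
  subst hs'
  have e : (PE.mk x y false) = (PE.mk x M2.one false).mul (PE.mk M2.one y false) := by
    show _ = (⟨x.mul M2.one, M2.one.mul y, false⟩ : PE)
    rw [M2_mul_one, M2_one_mul]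
  have hox : (PE.mk x M2.one false).Ok := ⟨hp.1, det_one⟩
  have hoy : (PE.mk M2.one y false).Ok := ⟨det_one, hp.2⟩
  rw [e, el_mul hox hoy]
  exact mul_mem (mem_DD_x hp.1) (mem_DD_y hp.2)

/-! ### The index -/

theorem card_sl : Nat.card {x : M2 // x.det = 1} = 24 := by
  have h1 : ∀ x : M2, x.det = 1 ↔ x ∈ slL.toFinset := fun x => by
    rw [List.mem_toFinset]
    exact ⟨fun h => mem_slL h, fun h => slL_det x h⟩
  rw [Nat.card_congr (Equiv.subtypeEquivRight h1), Nat.card_eq_fintype_card, Fintype.card_coe]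
  decide +kernel

/-- the preimage of `C(z)` in `Sp₄(3)` -/
noncomputable def HH : Subgroup Sp := (centralizer ({z} : Set (PSp 2 F3))).comap πh

theorem card_HH : Nat.card HH = 1152 := by
  have hOk : ∀ q : ({x : M2 // x.det = 1} × {x : M2 // x.det = 1}) × Bool, (PE.mk q.1.1 q.1.2 q.2).Ok :=
    fun q => ⟨q.1.1.2, q.1.2.2⟩
  have hmem : ∀ q, (PE.mk q.1.1 q.1.2 q.2).sp (hOk q) ∈ HH := by
    intro q
    show π ((PE.mk q.1.1 q.1.2 q.2).sp (hOk q)) ∈ centralizer ({z} : Set (PSp 2 F3))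
    rw [← el_eq (hOk q), mem_centralizer_singleton_iff]
    exact z_comm (hOk q)
  let f : ({x : M2 // x.det = 1} × {x : M2 // x.det = 1}) × Bool → HH := fun q =>
    ⟨(PE.mk q.1.1 q.1.2 q.2).sp (hOk q), hmem q⟩
  have hf : Function.Bijective f := by
    constructor
    · rintro ⟨⟨⟨x, hx⟩, ⟨y, hy⟩⟩, s⟩ ⟨⟨⟨x', hx'⟩, ⟨y', hy'⟩⟩, s'⟩ h
      have h1 : (PE.mk x y s).mat = (PE.mk x' y' s').mat := congrArg (fun w : HH => ((w : Sp) : Mat)) h
      have h2 := mat_inj h1 ⟨hx, hy⟩ ⟨hx', hy'⟩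
      obtain ⟨rfl, rfl, rfl⟩ := PE.mk.inj h2
      rfl
    · rintro ⟨g, hg⟩
      have hg' : π g * z = z * π g := mem_centralizer_singleton_iff.1 hg
      obtain ⟨p, hp, h1⟩ := exists_el hg'
      rw [el_eq hp] at h1
      rcases eq_or_of_π_eq h1 with h2 | h2
      · refine ⟨((⟨p.x, hp.1⟩, ⟨p.y, hp.2⟩), p.s), Subtype.ext (Subtype.ext ?_)⟩
        exact h2.symm
      · refine ⟨((⟨p.neg.x, hp.neg.1⟩, ⟨p.neg.y, hp.neg.2⟩), p.neg.s), Subtype.ext (Subtype.ext ?_)⟩
        show p.neg.mat = (g : Mat)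
        rw [mat_neg, h2]
        rfl
  rw [← Nat.card_congr (Equiv.ofBijective f hf), Nat.card_prod, Nat.card_prod, card_sl, Nat.card_eq_fintype_card,
    Fintype.card_bool]

theorem card_Sp : Nat.card Sp = 51840 := by
  have h := Cfsg.Agent.LieClassical.SympCount.card_symplecticGroup (F := F3) 2
  rw [Finset.prod_range_succ, Finset.prod_range_succ, Finset.prod_range_zero, Cfsg.Agent.Lib.FieldThree.F3.card] at h
  refine h.trans ?_
  norm_num

theorem odd_index : Odd (centralizer ({z} : Set (PSp 2 F3))).index := by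
  have h1 : HH.index = (centralizer ({z} : Set (PSp 2 F3))).index :=
    index_comap_of_surjective _ (QuotientGroup.mk'_surjective _)
  have h2 := HH.card_mul_index
  rw [card_HH, card_Sp] at h2
  rw [← h1]
  have h3 : HH.index = 45 := by omega
  rw [h3]
  decide

theorem base : Base z R where
  zz := z_mul_z
  z1 := z_ne
  odd := odd_index
  zR := (mem_R ok_zz).2 (by decide)
  pR := isPGroup_R
  RP := fun _ hr => R_comm hr
  nR := fun _ hg _ hr => R_norm hg hr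
  max := max_R
  cR := cent_R
  ab := ab
  oz := mem_DD ok_zz rfl

/-! ### The element `v` -/

/-- the matrix `k` -/
noncomputable def K0 : Sp := ⟨Cfsg.Agent.SmallSimple.S1000.Order25920PSp.mat
  ![![.i, .i, .o, .o], ![.m, .i, .o, .o], ![.i, .i, .m, .m], ![.m, .i, .i, .m]], by
    rw [SymplecticGroup.mem_iff]; decide +kernel⟩

theorem k_z : π K0 * z = vv.el * π K0 := by
  rw [el_vv, z, el_zz, ← π_mul, ← π_mul]
  refine π_eq ?_
  show (K0 : Mat) * m3 = m4 * K0 ∨ (K0 : Mat) * m3 = -((m4 : Mat) * K0)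
  decide +kernel

theorem k_v : π K0 * vv.el = z * π K0 := by
  rw [el_vv, z, el_zz, ← π_mul, ← π_mul]
  refine π_eq ?_
  show (K0 : Mat) * m4 = m3 * K0 ∨ (K0 : Mat) * m4 = -((m3 : Mat) * K0)
  decide +kernel

theorem ex : ∃ v k : PSp 2 F3, v * v = 1 ∧ v * z = z * v ∧ k * z * k⁻¹ = v ∧ k⁻¹ * z * k ∉ R ∧ v ∉ R ∧
    (∀ r ∈ R, v * r * (v * r) = 1 → ∃ h ∈ R, h * (v * r) * h⁻¹ = v ∨ h * (v * r) * h⁻¹ = v * z) ∧
    (∀ g, g * z = z * g → g ∈ DD ∨ v * g ∈ DD) ∧
    ∀ p, p * z = z * p → p * p = 1 → p ∉ DD →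
      ∃ h, h * z = z * h ∧ (h * p * h⁻¹ = v ∨ h * p * h⁻¹ = v * z) := by
  have vR : vv.el ∉ R := by
    rw [mem_R ok_vv]
    decide
  -- involutions with `s = true`
  have key : ∀ x y : M2, x.det = 1 → y.det = 1 → (PE.mk x y true).el * (PE.mk x y true).el = 1 →
      (PE.mk y M2.one false).el * (PE.mk x y true).el * ((PE.mk y M2.one false).el)⁻¹ = vv.el ∨
      (PE.mk y M2.one false).el * (PE.mk x y true).el * ((PE.mk y M2.one false).el)⁻¹ = vv.el * z := by
    intro x y hx hy h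
    have hp : (PE.mk x y true).Ok := ⟨hx, hy⟩
    have hh : (PE.mk y M2.one false).Ok := ⟨hy, det_one⟩
    have c := (allG_iff _ _).1 ((allG_iff _ _).1 inv_check x (mem_slL hx)) y (mem_slL hy)
    have h1 : isOne ((PE.mk x y true).mul (PE.mk x y true)) = true := by
      rw [← el_eq_one (hp.mul hp), el_mul hp hp]; exact h
    have c' : (!isOne ((PE.mk x y true).mul (PE.mk x y true)) ||
      ((cj (PE.mk y M2.one false) (PE.mk x y true)).beqs vv ||
        (cj (PE.mk y M2.one false) (PE.mk x y true)).beqs (vv.mul zz))) = true := c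
    rw [h1] at c'
    have c2 : ((cj (PE.mk y M2.one false) (PE.mk x y true)).beqs vv ||
        (cj (PE.mk y M2.one false) (PE.mk x y true)).beqs (vv.mul zz)) = true := c'
    rw [Bool.or_eq_true] at c2
    rw [← el_cj hh hp]
    rcases c2 with c3 | c3
    · left; exact eq_el (ok_cj hh hp) ok_vv c3
    · right
      rw [eq_el (ok_cj hh hp) (ok_vv.mul ok_zz) c3, el_mul ok_vv ok_zz]
      rfl
  refine ⟨vv.el, π K0, ?_, z_comm ok_vv, ?_, ?_, vR, ?_, ?_, ?_⟩
  · rw [← el_mul ok_vv ok_vv, el_eq_one (ok_vv.mul ok_vv)]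
    decide
  · rw [k_z, mul_inv_cancel_right]
  · rw [mul_assoc, ← k_v, inv_mul_cancel_left]
    exact vR
  · rintro _ ⟨p, hp, hR, rfl⟩ h
    rw [inR_iff] at hR
    obtain ⟨x, y, s⟩ := p
    obtain ⟨hx, hy, hs⟩ := hR
    have hs' : s = false := hs
    subst hs'
    have e : vv.el * (PE.mk x y false).el = (PE.mk y x true).el := by
      rw [← el_mul ok_vv hp]
      show (PE.mk (M2.one.mul y) (M2.one.mul x) true).el = _
      rw [M2_one_mul, M2_one_mul]
    rw [e] at h ⊢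
    have hx' : inQ x = true := hx
    have hh : (PE.mk x M2.one false).Ok := ⟨hp.1, det_one⟩
    refine ⟨(PE.mk x M2.one false).el, (mem_R hh).2 ?_, key y x hp.2 hp.1 h⟩
    rw [inR_iff]
    exact ⟨hx', inQ_one, rfl⟩
  · intro g hg
    obtain ⟨p, hp, rfl⟩ := exists_el hg
    cases hs : p.s
    · left; exact mem_DD hp hs
    · right
      rw [← el_mul ok_vv hp]
      refine mem_DD (ok_vv.mul hp) ?_
      show (!p.s) = false
      rw [hs]; rfl
  · intro g hg hgg hD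
    obtain ⟨p, hp, rfl⟩ := exists_el hg
    cases hs : p.s
    · exact (hD (mem_DD hp hs)).elim
    · obtain ⟨x, y, s⟩ := p
      have hs' : s = true := hs
      subst hs'
      exact ⟨(PE.mk y M2.one false).el, z_comm ⟨hp.2, det_one⟩, key x y hp.1 hp.2 hgg⟩

end PE

end Cfsg.Agent.KFacts.PSpFourThree
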