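import Cfsg.Agent.KFacts.PSpFourThree.Model

/-!
# `PSp₄(3)`: kernel checks for the centraliser of a 2-central involution (helper931)
-/

set_option autoImplicit false
set_option linter.style.haveILetI false
set_option maxRecDepth 100000

namespace Cfsg.Agent.KFacts.PSpFourThree

open Matrix Subgroup Cfsg
open Cfsg.Agent.Lib.FieldThree (F3)

/-! ### Enumeration -/

/-- `SL₂(3)` -/
def slL : List M2 :=
  [⟨.o, .i, .m, .o⟩, ⟨.o, .i, .m, .i⟩, ⟨.o, .i, .m, .m⟩, ⟨.o, .m, .i, .o⟩, ⟨.o, .m, .i, .i⟩, ⟨.o, .m, .i, .m⟩,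
   ⟨.i, .o, .o, .i⟩, ⟨.i, .o, .i, .i⟩, ⟨.i, .o, .m, .i⟩, ⟨.i, .i, .o, .i⟩, ⟨.i, .i, .i, .m⟩, ⟨.i, .i, .m, .o⟩,
   ⟨.i, .m, .o, .i⟩, ⟨.i, .m, .i, .o⟩, ⟨.i, .m, .m, .m⟩, ⟨.m, .o, .o, .m⟩, ⟨.m, .o, .i, .m⟩, ⟨.m, .o, .m, .m⟩,
   ⟨.m, .i, .o, .m⟩, ⟨.m, .i, .i, .i⟩, ⟨.m, .i, .m, .o⟩, ⟨.m, .m, .o, .m⟩, ⟨.m, .m, .i, .o⟩, ⟨.m, .m, .m, .i⟩]

/-- all elements of a list -/
def allG {α : Type*} (f : α → Bool) (l : List α) : Bool := List.rec true (fun x _ ih => and (f x) ih) l

/-- some element of a list -/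
def anyG {α : Type*} (f : α → Bool) (l : List α) : Bool := List.rec false (fun x _ ih => or (f x) ih) l

theorem allG_iff {α : Type*} (f : α → Bool) (l : List α) : allG f l = true ↔ ∀ x ∈ l, f x = true := by
  induction l with
  | nil => simp [allG]
  | cons x w ih =>
    show and (f x) (allG f w) = true ↔ _
    simp [ih]

theorem anyG_iff {α : Type*} (f : α → Bool) (l : List α) : anyG f l = true ↔ ∃ x ∈ l, f x = true := by
  induction l with
  | nil => simp [anyG]
  | cons x w ih =>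
    show or (f x) (anyG f w) = true ↔ _
    simp [ih]

theorem mem_slL_aux : ∀ a b c d : F3, a * d - b * c = 1 → M2.mk a b c d ∈ slL := by decide +kernel

theorem mem_slL {x : M2} (h : x.det = 1) : x ∈ slL := by
  obtain ⟨a, b, c, d⟩ := x
  exact mem_slL_aux a b c d h

theorem slL_det : ∀ x ∈ slL, x.det = 1 := by decide +kernel

/-- all elements of `SL₂(3) wr 2` -/
def allPE (f : PE → Bool) : Bool :=
  allG (fun x => allG (fun y => and (f ⟨x, y, false⟩) (f ⟨x, y, true⟩)) slL) slL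

theorem allPE_spec {f : PE → Bool} (h : allPE f = true) {p : PE} (hp : p.Ok) : f p = true := by
  obtain ⟨x, y, s⟩ := p
  have h1 := (allG_iff _ _).1 ((allG_iff _ _).1 h x (mem_slL hp.1)) y (mem_slL hp.2)
  rw [Bool.and_eq_true] at h1
  cases s
  · exact h1.1
  · exact h1.2

namespace PE

/-- eighth power -/
def p8 (p : PE) : PE := ((p.mul p).mul (p.mul p)).mul ((p.mul p).mul (p.mul p))

/-- trivial element -/
def isOne (p : PE) : Bool := p.beqs one

/-- central product of the quaternion groups -/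
def inQ (x : M2) : Bool := or (eq3 (x.a + x.d) 0) (and (eq3 x.b 0) (eq3 x.c 0))

/-- `R` -/
def inR (p : PE) : Bool := and (inQ p.x) (and (inQ p.y) (not p.s))

/-- commutation -/
def cmt (p q : PE) : Bool := (p.mul q).beqs (q.mul p)

/-- conjugation -/
def cj (d p : PE) : PE := (d.mul p).mul d.inv

def q1 : M2 := ⟨.o, .m, .i, .o⟩
def q2 : M2 := ⟨.i, .i, .i, .m⟩
def r1 : PE := ⟨q1, M2.one, false⟩
def r2 : PE := ⟨q2, M2.one, false⟩
def r3 : PE := ⟨M2.one, q1, false⟩
def r4 : PE := ⟨M2.one, q2, false⟩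
/-- element of order three of `SL₂(3)` -/
def tt : M2 := ⟨.i, .i, .o, .i⟩
def tt2 : M2 := ⟨.i, .m, .o, .i⟩
def d1 : PE := ⟨tt, M2.one, false⟩

/-- exponent `24` -/
theorem exp_check : allPE (fun p => isOne (((p.p8).mul p.p8).mul p.p8)) = true := by decide +kernel

/-- `C(R) = ⟨z⟩` -/
theorem cR_check : allPE (fun p => or (not (and (cmt p r1) (and (cmt p r2) (and (cmt p r3) (cmt p r4)))))
    (or (p.beqs one) (p.beqs zz))) = true := by decide +kernel

/-- `O₂(P) = R` -/
theorem max_check : allPE (fun p => or (inR p) (or (not (isOne p.p8)) (not (isOne (p.mul (cj d1 p)).p8)))) = true := by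
  decide +kernel

/-- `R` is closed under products -/
theorem inR_mul_check : allG (fun x => allG (fun y => or (not (and (inQ x) (inQ y))) (inQ (x.mul y))) slL) slL = true := by
  decide +kernel

theorem inQ_inv_check : allG (fun x => or (not (inQ x)) (inQ x.inv)) slL = true := by decide +kernel

theorem inQ_neg_check : allG (fun x => or (not (inQ x)) (inQ x.neg)) slL = true := by decide +kernel

theorem inQ_conj_check : allG (fun x => allG (fun y => or (not (inQ y)) (inQ ((x.mul y).mul x.inv))) slL) slL = true := by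
  decide +kernel

/-- `R` is a 2-group -/
theorem R8_check : allPE (fun p => or (not (inR p)) (isOne p.p8)) = true := by decide +kernel

/-- generators of `R` -/
theorem genR_check : allG (fun x => or (not (inQ x))
    (and (anyG (fun w => (PE.mk x M2.one false).beqs w) [one, r1, r2, r1.mul r2, zz, r1.mul zz, r2.mul zz, (r1.mul r2).mul zz])
      (anyG (fun w => (PE.mk M2.one x false).beqs w) [one, r3, r4, r3.mul r4, zz, r3.mul zz, r4.mul zz, (r3.mul r4).mul zz])))
    slL = true := by decide +kernel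

/-- pairs of elements for the irreducibility -/
def pairs : List (PE × PE) :=
  [(⟨M2.one, M2.one, false⟩, ⟨tt, M2.one, false⟩), (⟨tt, M2.one, false⟩, ⟨tt2, M2.one, false⟩),
   (⟨tt2, M2.one, false⟩, ⟨M2.one, M2.one, false⟩), (⟨M2.one, M2.one, false⟩, ⟨M2.one, tt, false⟩),
   (⟨M2.one, tt, false⟩, ⟨M2.one, tt2, false⟩), (⟨M2.one, tt2, false⟩, ⟨M2.one, M2.one, false⟩),
   (⟨M2.one, M2.one, true⟩, ⟨tt, M2.one, true⟩), (⟨tt, M2.one, true⟩, ⟨tt2, M2.one, true⟩),
   (⟨tt2, M2.one, true⟩, ⟨M2.one, M2.one, true⟩), (⟨M2.one, M2.one, true⟩, ⟨M2.one, tt, true⟩),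
   (⟨M2.one, tt, true⟩, ⟨M2.one, tt2, true⟩), (⟨M2.one, tt2, true⟩, ⟨M2.one, M2.one, true⟩)]

/-- `g` is a product of two conjugates of `n`, up to `z` -/
def hit (n g : PE) : Bool :=
  anyG (fun d => let w := (cj d.1 n).mul (cj d.2 n); or (w.beqs g) (w.beqs (g.mul zz))) pairs

/-- irreducibility -/
theorem irr_check : allG (fun x => allG (fun y => or (not (and (inQ x) (inQ y)))
    (let n : PE := ⟨x, y, false⟩
     or (or (n.beqs one) (n.beqs zz)) (and (and (hit n r1) (hit n r2)) (and (hit n r3) (hit n r4))))) slL) slL = true := by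
  decide +kernel

/-- no noncentral element of `R` commutes with `R` -/
theorem comm_check : allG (fun x => allG (fun y => or (not (and (inQ x) (inQ y)))
    (let n : PE := ⟨x, y, false⟩
     or (or (n.beqs one) (n.beqs zz)) (anyG (fun r => ((n.mul (r.mul n)).mul r.inv).beqs (n.mul (n.mul zz))) [r1, r2, r3, r4])))
     slL) slL = true := by
  decide +kernel

/-- elements of order dividing three -/
def L9 : List M2 := [M2.one, ⟨.o, .i, .m, .m⟩, ⟨.o, .m, .i, .m⟩, ⟨.i, .o, .i, .i⟩, ⟨.i, .o, .m, .i⟩, ⟨.i, .i, .o, .i⟩,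
  ⟨.i, .m, .o, .i⟩, ⟨.m, .i, .m, .o⟩, ⟨.m, .m, .i, .o⟩]

theorem L9_check : allG (fun x => and (((x.mul x).mul x).beq M2.one) (eq3 x.det 1)) L9 = true := by decide +kernel

/-- `SL₂(3)` is generated by elements of order three -/
theorem gen_check : allG (fun x => anyG (fun a => anyG (fun b => anyG (fun c => ((a.mul b).mul c).beq x) L9) L9) L9)
    slL = true := by decide +kernel

/-- the involutions outside `D` -/
theorem inv_check : allG (fun x => allG (fun y => let p : PE := ⟨x, y, true⟩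
    or (not (isOne (p.mul p))) (let h : PE := ⟨y, M2.one, false⟩
      or ((cj h p).beqs vv) ((cj h p).beqs (vv.mul zz)))) slL) slL = true := by decide +kernel

end PE

end Cfsg.Agent.KFacts.PSpFourThree
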