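import Cfsg.Agent.KFacts.PSpFourThree.Cent

/-!
# `PSp₄(3)`: the second class of involutions; `Facts.Three` (helper931)

`classes`: an involution `w` of `PSp 2 F3` not conjugate to `z` is conjugate to `π m1`, and every 2-subgroup normal in
`C(w)` is abelian. `three : Facts.Three z R`.
-/

set_option autoImplicit false
set_option linter.style.haveILetI false
set_option maxRecDepth 100000

namespace Cfsg.Agent.KFacts.PSpFourThree

open Matrix Subgroup Cfsg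
open Cfsg.Agent.Lib.FieldThree (F3)
open Cfsg.Agent.SmallSimple.S1000.Order25920PSp (Mat Sp π π_mul π_one π_eq m1 m2 m3 m4)
open Cfsg.Agent.OddHalf.Small.PSp43 (πh πh_apply comm_or eq_or_of_π_eq T8 exists_t8 m2_mul m21 inv_eq_of_mul
  exists_cnt_one mat_neg_one)
open Cfsg.Agent.OddHalf.D6.QThree.Facts
open Cfsg.Agent.ClassicalGeometry.SympInvolutions

/-! ### The model of `C(π m1)` -/

/-- equality -/
def t8beq (x y : T8) : Bool :=
  and (eq3 x.p0 y.p0) (and (eq3 x.p1 y.p1) (and (eq3 x.q0 y.q0) (and (eq3 x.q1 y.q1)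
    (and (eq3 x.r0 y.r0) (and (eq3 x.r1 y.r1) (and (eq3 x.s0 y.s0) (eq3 x.s1 y.s1)))))))

theorem t8beq_iff (x y : T8) : t8beq x y = true ↔ x = y := by
  obtain ⟨p0, p1, q0, q1, r0, r1, s0, s1⟩ := x
  obtain ⟨p0', p1', q0', q1', r0', r1', s0', s1'⟩ := y
  show and (eq3 p0 p0') (and (eq3 p1 p1') (and (eq3 q0 q0') (and (eq3 q1 q1')
    (and (eq3 r0 r0') (and (eq3 r1 r1') (and (eq3 s0 s0') (eq3 s1 s1'))))))) = true ↔ _
  simp only [Bool.and_eq_true, eq3_iff, T8.mk.injEq]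

/-- elements of `GU₂(3) . 2` -/
structure PW where
  x : T8
  s : Bool

namespace PW

/-- product -/
def mul (p q : PW) : PW :=
  Bool.rec ⟨p.x.mul q.x, q.s⟩ (Bool.rec ⟨p.x.mul q.x.cj, true⟩ ⟨(p.x.mul q.x.cj).neg, false⟩ q.s) p.s

/-- minus -/
def neg (p : PW) : PW := ⟨p.x.neg, p.s⟩

/-- equality -/
def beq (p q : PW) : Bool := and (t8beq p.x q.x) (PE.eqb p.s q.s)

theorem beq_iff (p q : PW) : p.beq q = true ↔ p = q := by
  obtain ⟨x, s⟩ := p
  obtain ⟨x', s'⟩ := q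
  show and (t8beq x x') (PE.eqb s s') = true ↔ _
  rw [Bool.and_eq_true, t8beq_iff, PE.eqb_iff, PW.mk.injEq]

/-- equality up to sign -/
def beqs (p q : PW) : Bool := or (p.beq q) (p.beq q.neg)

/-- `m2` or `1` -/
noncomputable def sw (s : Bool) : Mat := if s then (m2 : Mat) else 1

theorem sf : sw false = 1 := by unfold sw; rw [if_neg Bool.false_ne_true]
theorem st : sw true = (m2 : Mat) := by unfold sw; rw [if_pos rfl]

/-- the matrix -/
noncomputable def mat (p : PW) : Mat := p.x.mat * sw p.s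

theorem m2_sq : (m2 : Mat) * m2 = -1 := by decide +kernel

theorem mat_mul (p q : PW) : (p.mul q).mat = p.mat * q.mat := by
  obtain ⟨x, s⟩ := p
  obtain ⟨y, t⟩ := q
  cases s
  · show (x.mul y).mat * sw t = x.mat * sw false * (y.mat * sw t)
    rw [sf, mul_one, ← mul_assoc, T8.mat_mul]
  · cases t
    · show (x.mul y.cj).mat * sw true = x.mat * sw true * (y.mat * sw false)
      rw [sf, st, mul_one, mul_assoc, m2_mul, ← mul_assoc, T8.mat_mul]
    · show (x.mul y.cj).neg.mat * sw false = x.mat * sw true * (y.mat * sw true)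
      rw [sf, st, mul_one, mul_assoc, ← mul_assoc (m2 : Mat), m2_mul, mul_assoc y.cj.mat, m2_sq, mul_neg, mul_one,
        mul_neg, T8.mat_mul, T8.mat_neg]

theorem mat_neg (p : PW) : p.neg.mat = -p.mat := by
  show p.x.neg.mat * sw p.s = -(p.x.mat * sw p.s)
  rw [T8.mat_neg, neg_mul]

/-- `g` is represented by `p` -/
def Rep (g : Sp) (p : PW) : Prop := (g : Mat) = p.mat

theorem Rep.mul {g h : Sp} {p q : PW} (hg : Rep g p) (hh : Rep h q) : Rep (g * h) (p.mul q) := by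
  show (g : Mat) * h = _
  rw [mat_mul, ← hg, ← hh]

/-- eighth power -/
def p8 (p : PW) : PW := ((p.mul p).mul (p.mul p)).mul ((p.mul p).mul (p.mul p))

theorem sq_s (p : PW) : (p.mul p).s = false := by
  obtain ⟨x, s⟩ := p
  cases s <;> rfl

/-- the identity up to sign -/
def isOne (p : PW) : Bool := or (t8beq p.x T8.one) (t8beq p.x T8.one.neg)

theorem Rep.isOne {g : Sp} {p : PW} (hg : Rep g p) (hs : p.s = false) (h : π g = 1) : p.isOne = true := by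
  obtain ⟨x, s⟩ := p
  have hs' : s = false := hs
  subst hs'
  have hg' : (g : Mat) = x.mat * sw false := hg
  rw [sf, mul_one] at hg'
  unfold PW.isOne
  rw [Bool.or_eq_true, t8beq_iff, t8beq_iff]
  rcases eq_or_of_π_eq (x := g) (y := 1) (by rw [h, π_one]) with e | e
  · left
    apply T8.mat_inj
    rw [← hg', e, T8.mat_one]; rfl
  · right
    apply T8.mat_inj
    rw [← hg', e, mat_neg_one]; rfl

theorem Rep.p8 {g : Sp} {p : PW} (hg : Rep g p) : Rep (g ^ 8) p.p8 := by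
  have h : g ^ 8 = ((g * g) * (g * g)) * ((g * g) * (g * g)) := by
    simp only [pow_succ, pow_zero, one_mul, mul_assoc]
  rw [h]
  exact ((hg.mul hg).mul (hg.mul hg)).mul ((hg.mul hg).mul (hg.mul hg))

/-- the element of order three and its inverse -/
def dd : PW := ⟨⟨.i, .i, .m, .m, .i, .m, .i, .m⟩, false⟩
def dd' : PW := ⟨⟨.i, .m, .i, .i, .m, .i, .i, .i⟩, false⟩

/-- representatives of `O₂(C(π m1))` -/
def AL : List PW :=
  [⟨⟨.i, .o, .o, .o, .o, .o, .i, .o⟩, false⟩, ⟨⟨.i, .o, .o, .o, .o, .o, .m, .o⟩, false⟩,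
   ⟨⟨.o, .o, .i, .o, .m, .o, .o, .o⟩, false⟩, ⟨⟨.o, .o, .i, .o, .i, .o, .o, .o⟩, false⟩,
   ⟨⟨.o, .i, .o, .o, .o, .o, .o, .i⟩, false⟩, ⟨⟨.o, .i, .o, .o, .o, .o, .o, .m⟩, false⟩,
   ⟨⟨.o, .o, .o, .i, .o, .i, .o, .o⟩, false⟩, ⟨⟨.o, .o, .o, .i, .o, .m, .o, .o⟩, false⟩,
   ⟨⟨.i, .o, .o, .o, .o, .o, .i, .o⟩, true⟩, ⟨⟨.i, .o, .o, .o, .o, .o, .m, .o⟩, true⟩,
   ⟨⟨.o, .o, .i, .o, .m, .o, .o, .o⟩, true⟩, ⟨⟨.o, .o, .i, .o, .i, .o, .o, .o⟩, true⟩,
   ⟨⟨.o, .i, .o, .o, .o, .o, .o, .i⟩, true⟩, ⟨⟨.o, .i, .o, .o, .o, .o, .o, .m⟩, true⟩,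
   ⟨⟨.o, .o, .o, .i, .o, .i, .o, .o⟩, true⟩, ⟨⟨.o, .o, .o, .i, .o, .m, .o, .o⟩, true⟩]

/-- in `O₂(C(π m1))` -/
def inA (p : PW) : Bool := anyG (fun w => p.beqs w) AL

theorem ab_check : allG (fun w => allG (fun w' => (w.mul w').beqs (w'.mul w)) AL) AL = true := by decide +kernel

/-- the check for one element -/
def chk (p : PW) : Bool :=
  or (inA p) (or (not (isOne p.p8)) (not (isOne (p.mul ((dd.mul p).mul dd')).p8)))

/-- the exponent -/
def expo (p : PW) : Bool := isOne ((p.p8.mul p.p8).mul p.p8)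

theorem chk_check : ∀ p0 p1 q0 q1 : F3, p0 * p0 + p1 * p1 + q0 * q0 + q1 * q1 = 1 →
    ∀ r0 r1 s0 s1 : F3, r0 * r0 + r1 * r1 + s0 * s0 + s1 * s1 = 1 →
    p0 * r0 + p1 * r1 + q0 * s0 + q1 * s1 = 0 → p1 * r0 - p0 * r1 + q1 * s0 - q0 * s1 = 0 →
    (chk ⟨⟨p0, p1, q0, q1, r0, r1, s0, s1⟩, false⟩ && chk ⟨⟨p0, p1, q0, q1, r0, r1, s0, s1⟩, true⟩) = true := by
  decide +kernel

theorem chk_spec {p : PW} (h : p.x.Un) : chk p = true := by
  obtain ⟨⟨p0, p1, q0, q1, r0, r1, s0, s1⟩, s⟩ := p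
  obtain ⟨u1, u2, u3, u4⟩ := h
  have h1 := chk_check p0 p1 q0 q1 u1 r0 r1 s0 s1 u2 u3 u4
  rw [Bool.and_eq_true] at h1
  cases s
  · exact h1.1
  · exact h1.2

theorem exp_check : ∀ p0 p1 q0 q1 : F3, p0 * p0 + p1 * p1 + q0 * q0 + q1 * q1 = 1 →
    ∀ r0 r1 s0 s1 : F3, r0 * r0 + r1 * r1 + s0 * s0 + s1 * s1 = 1 →
    p0 * r0 + p1 * r1 + q0 * s0 + q1 * s1 = 0 → p1 * r0 - p0 * r1 + q1 * s0 - q0 * s1 = 0 →
    (expo ⟨⟨p0, p1, q0, q1, r0, r1, s0, s1⟩, false⟩ && expo ⟨⟨p0, p1, q0, q1, r0, r1, s0, s1⟩, true⟩) = true := by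
  decide +kernel

theorem exp_spec {p : PW} (h : p.x.Un) : expo p = true := by
  obtain ⟨⟨p0, p1, q0, q1, r0, r1, s0, s1⟩, s⟩ := p
  obtain ⟨u1, u2, u3, u4⟩ := h
  have h1 := exp_check p0 p1 q0 q1 u1 r0 r1 s0 s1 u2 u3 u4
  rw [Bool.and_eq_true] at h1
  cases s
  · exact h1.1
  · exact h1.2

theorem m2_inv : ((m2⁻¹ : Sp) : Mat) = -(m2 : Mat) := inv_eq_of_mul (by decide +kernel)

/-- every element of `C(π m1)` is represented -/
theorem exists_rep {g : Sp} (h : π g * π m1 = π m1 * π g) : ∃ p : PW, p.x.Un ∧ Rep g p := by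
  rcases comm_or h with h1 | h1
  · obtain ⟨x, hx, hu⟩ := exists_t8 h1
    refine ⟨⟨x, false⟩, hu, ?_⟩
    show (g : Mat) = x.mat * sw false
    rw [sf, mul_one, hx]
  · have h2 : ((g * m2⁻¹ : Sp) : Mat) * m1 = m1 * ((g * m2⁻¹ : Sp) : Mat) := by
      show (g : Mat) * ((m2⁻¹ : Sp) : Mat) * m1 = m1 * ((g : Mat) * ((m2⁻¹ : Sp) : Mat))
      rw [m2_inv, mul_neg, neg_mul, mul_assoc, m21, mul_neg, neg_neg, ← mul_assoc, h1, neg_mul, mul_neg, mul_assoc]
    obtain ⟨x, hx, hu⟩ := exists_t8 h2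
    refine ⟨⟨x, true⟩, hu, ?_⟩
    show (g : Mat) = x.mat * sw true
    rw [st, ← hx]
    show (g : Mat) = (g : Mat) * ((m2⁻¹ : Sp) : Mat) * m2
    rw [m2_inv, mul_neg, neg_mul, mul_assoc, m2_sq, mul_neg, mul_one, neg_neg]

/-- the element `d` of order three -/
noncomputable def dS : Sp := ⟨dd.x.mat, by rw [SymplecticGroup.mem_iff]; decide +kernel⟩

theorem dS_rep : Rep dS dd := by
  show dd.x.mat = dd.x.mat * sw false
  rw [sf, mul_one]

theorem dS_inv_rep : Rep dS⁻¹ dd' := by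
  show ((dS⁻¹ : Sp) : Mat) = dd'.x.mat * sw false
  rw [sf, mul_one]
  refine inv_eq_of_mul ?_
  show dd.x.mat * dd'.x.mat = 1
  rw [T8.mat_mul, ← T8.mat_one]
  congr 1

theorem dS_comm : π dS * π m1 = π m1 * π dS := by
  rw [← π_mul, ← π_mul]
  refine π_eq (Or.inl ?_)
  show dd.x.mat * (m1 : Mat) = m1 * dd.x.mat
  decide +kernel

theorem Rep.of_isOne {g : Sp} {p : PW} (hg : Rep g p) (hs : p.s = false) (h : p.isOne = true) : π g = 1 := by
  obtain ⟨x, s⟩ := p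
  have hs' : s = false := hs
  subst hs'
  have hg' : (g : Mat) = x.mat * sw false := hg
  rw [sf, mul_one] at hg'
  unfold PW.isOne at h
  rw [Bool.or_eq_true, t8beq_iff, t8beq_iff] at h
  rw [← π_one]
  refine π_eq ?_
  rcases h with e | e
  · left
    have e' : x = T8.one := e
    rw [hg', e', T8.mat_one]; rfl
  · right
    have e' : x = T8.one.neg := e
    rw [hg', e', mat_neg_one]; rfl

theorem p8_s (p : PW) : p.p8.s = false := by
  unfold PW.p8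
  exact sq_s _

theorem mul_s {p q : PW} (hp : p.s = false) (hq : q.s = false) : (p.mul q).s = false := by
  obtain ⟨x, s⟩ := p
  have hs' : s = false := hp
  subst hs'
  exact hq

/-- elements of 2-subgroups of `C(π m1)` have order dividing `8` -/
theorem pow_eight {N : Subgroup (PSp 2 F3)} (hN : IsPGroup 2 N) {g : Sp} (hn : π g ∈ N) {p : PW} (hu : p.x.Un)
    (hg : Rep g p) : (π g) ^ 8 = 1 := by
  have h24 : (π g) ^ 24 = 1 := by
    have h := exp_spec hu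
    have h3 := ((hg.p8.mul hg.p8).mul hg.p8).of_isOne (mul_s (mul_s (p8_s p) (p8_s p)) (p8_s p)) h
    rw [← pow_add, ← pow_add] at h3
    exact h3
  obtain ⟨k, hk⟩ := hN ⟨_, hn⟩
  have hk' : (π g) ^ 2 ^ k = 1 := congrArg Subtype.val hk
  have h1 : orderOf (π g) ∣ 2 ^ k := orderOf_dvd_of_pow_eq_one hk'
  have h2 : orderOf (π g) ∣ 24 := orderOf_dvd_of_pow_eq_one h24
  obtain ⟨j, hj, hj'⟩ := (Nat.dvd_prime_pow Nat.prime_two).1 h1
  rw [hj'] at h2
  have h3 : j ≤ 3 := by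
    by_contra hcon
    push Not at hcon
    have h4 : (2 : ℕ) ^ 4 ∣ 24 := (pow_dvd_pow 2 hcon).trans h2
    omega
  apply orderOf_dvd_iff_pow_eq_one.1
  rw [hj', show (8 : ℕ) = 2 ^ 3 from rfl]
  exact pow_dvd_pow 2 h3

/-- elements of a 2-subgroup normal in `C(π m1)` are represented in `O₂` -/
theorem rep_of_mem {N : Subgroup (PSp 2 F3)} (hN : IsPGroup 2 N) (h1 : ∀ n ∈ N, n * π m1 = π m1 * n)
    (h2 : ∀ g, g * π m1 = π m1 * g → ∀ n ∈ N, g * n * g⁻¹ ∈ N) {n : PSp 2 F3} (hn : n ∈ N) :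
    ∃ (g : Sp) (w : PW), w ∈ AL ∧ Rep g w ∧ n = π g := by
  obtain ⟨g, rfl⟩ := QuotientGroup.mk_surjective n
  have hn' : π g ∈ N := hn
  obtain ⟨p, hu, hg⟩ := exists_rep (g := g) (h1 _ hn)
  have hc := chk_spec hu
  unfold chk at hc
  rw [Bool.or_eq_true, Bool.or_eq_true, Bool.not_eq_true', Bool.not_eq_true'] at hc
  rcases hc with h | h | h
  · unfold inA at h
    rw [anyG_iff] at h
    obtain ⟨w, hw, h3⟩ := h
    unfold beqs at h3
    rw [Bool.or_eq_true, beq_iff, beq_iff] at h3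
    rcases h3 with rfl | rfl
    · exact ⟨g, p, hw, hg, rfl⟩
    · refine ⟨⟨-(g : Mat), SymplecticGroup.neg_mem g.2⟩, w, hw, ?_, ?_⟩
      · show -(g : Mat) = w.mat
        have hg' : (g : Mat) = w.neg.mat := hg
        rw [hg', mat_neg, neg_neg]
      · exact π_eq (Or.inr (by show (g : Mat) = -(-(g : Mat)); rw [neg_neg]))
  · exfalso
    have h3 := hg.p8.isOne (p8_s p) (pow_eight hN hn' hu hg)
    rw [h] at h3
    exact Bool.false_ne_true h3
  · exfalso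
    have h4 : Rep (g * (dS * g * dS⁻¹)) (p.mul ((dd.mul p).mul dd')) :=
      hg.mul ((dS_rep.mul hg).mul dS_inv_rep)
    have h5 : π (g * (dS * g * dS⁻¹)) ∈ N := mul_mem hn' (h2 _ dS_comm _ hn')
    obtain ⟨p', hu', hg'⟩ := exists_rep (g := g * (dS * g * dS⁻¹)) (h1 _ h5)
    have h6 := h4.p8.isOne (p8_s _) (pow_eight hN h5 hu' hg')
    rw [h] at h6
    exact Bool.false_ne_true h6

/-- 2-subgroups normal in `C(π m1)` are abelian -/
theorem abel {N : Subgroup (PSp 2 F3)} (hN : IsPGroup 2 N) (h1 : ∀ n ∈ N, n * π m1 = π m1 * n)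
    (h2 : ∀ g, g * π m1 = π m1 * g → ∀ n ∈ N, g * n * g⁻¹ ∈ N) : ∀ a ∈ N, ∀ b ∈ N, a * b = b * a := by
  intro a ha b hb
  obtain ⟨g, w, hw, hg, rfl⟩ := rep_of_mem hN h1 h2 ha
  obtain ⟨g', w', hw', hg', rfl⟩ := rep_of_mem hN h1 h2 hb
  have hc := (allG_iff _ _).1 ((allG_iff _ _).1 ab_check w hw) w' hw'
  unfold beqs at hc
  rw [Bool.or_eq_true, beq_iff, beq_iff] at hc
  rw [← π_mul, ← π_mul]
  have e1 : ((g * g' : Sp) : Mat) = (w.mul w').mat := hg.mul hg'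
  have e2 : ((g' * g : Sp) : Mat) = (w'.mul w).mat := hg'.mul hg
  refine π_eq ?_
  rcases hc with h | h
  · left; rw [e1, e2, h]
  · right; rw [e1, e2, h, mat_neg]

end PW

open PE (z)

theorem classes : ∀ w : PSp 2 F3, w * w = 1 → w ≠ 1 → (∃ k, k * z * k⁻¹ = w) ∨
    ∀ N : Subgroup (PSp 2 F3), IsPGroup 2 N → (∀ n ∈ N, n * w = w * n) →
      (∀ g, g * w = w * g → ∀ n ∈ N, g * n * g⁻¹ ∈ N) → ∀ a ∈ N, ∀ b ∈ N, a * b = b * a := by
  intro w hw hw1
  obtain ⟨g, rfl⟩ := QuotientGroup.mk_surjective w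
  have hne : π g ≠ 1 := hw1
  have hsq : π (g * g) = π 1 := by rw [π_mul, π_one]; exact hw
  rcases eq_or_of_π_eq hsq with h | h
  · left
    obtain ⟨δ, hδ, hc⟩ := exists_cnt_one (g := g) h hne
    obtain ⟨δ', hδ', hc'⟩ := exists_cnt_one (g := m3) (by decide +kernel)
      (Cfsg.Agent.SmallSimple.S1000.Order25920PSp.π_ne_one (by decide +kernel))
    have h3 : IsConj m3 g := isConj_of_cnt_eq hδ' hδ (by rw [hc, hc'])
    obtain ⟨k, hk⟩ := isConj_iff.1 h3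
    refine ⟨π k, ?_⟩
    rw [z, PE.el_zz]
    show πh k * πh m3 * (πh k)⁻¹ = πh g
    rw [← hk, map_mul, map_mul, map_inv]
  · right
    have h3 : IsConj m1 g := isConj_of_sq_neg_one (by decide) (by decide +kernel) h
    obtain ⟨k, hk⟩ := isConj_iff.1 h3
    have hk' : (πh k) * π m1 * (πh k)⁻¹ = π g := by
      show πh k * πh m1 * (πh k)⁻¹ = πh g
      rw [← hk, map_mul, map_mul, map_inv]
    intro N hN h1 h2 a ha b hb
    have h1' : ∀ n ∈ N, n * π g = π g * n := h1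
    have h2' : ∀ x, x * π g = π g * x → ∀ n ∈ N, x * n * x⁻¹ ∈ N := h2
    rw [← hk'] at h1' h2'
    -- conjugate `N`
    let c : PSp 2 F3 →* PSp 2 F3 := (MulAut.conj (πh k)⁻¹).toMonoidHom
    have hcapp : ∀ x, c x = (πh k)⁻¹ * x * πh k := fun x => by
      show (πh k)⁻¹ * x * ((πh k)⁻¹)⁻¹ = _
      rw [inv_inv]
    have hN' : IsPGroup 2 (N.map c) := hN.map c
    have k1 : ∀ n ∈ N.map c, n * π m1 = π m1 * n := by
      rintro _ ⟨n, hn, rfl⟩
      have e := h1' n hn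
      rw [hcapp]
      calc (πh k)⁻¹ * n * πh k * π m1 = (πh k)⁻¹ * (n * (πh k * π m1 * (πh k)⁻¹)) * πh k := by group
        _ = (πh k)⁻¹ * (πh k * π m1 * (πh k)⁻¹ * n) * πh k := by rw [e]
        _ = π m1 * ((πh k)⁻¹ * n * πh k) := by group
    have k2 : ∀ x, x * π m1 = π m1 * x → ∀ n ∈ N.map c, x * n * x⁻¹ ∈ N.map c := by
      rintro x hx _ ⟨n, hn, rfl⟩
      have e := h2' (πh k * x * (πh k)⁻¹) (by
        calc πh k * x * (πh k)⁻¹ * (πh k * π m1 * (πh k)⁻¹) = πh k * (x * π m1) * (πh k)⁻¹ := by group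
          _ = πh k * (π m1 * x) * (πh k)⁻¹ := by rw [hx]
          _ = _ := by group) n hn
      refine ⟨_, e, ?_⟩
      rw [hcapp, hcapp]
      group
    have k3 := PW.abel hN' k1 k2 (c a) ⟨a, ha, rfl⟩ (c b) ⟨b, hb, rfl⟩
    rw [← map_mul, ← map_mul] at k3
    exact (MulAut.conj (πh k)⁻¹).injective k3

/-- **The facts `Three` for `PSp₄(3)`.** -/
theorem three : Three PE.z PE.R where
  toBase := PE.base
  irr := PE.irr
  classes := classes
  ex := PE.ex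

end Cfsg.Agent.KFacts.PSpFourThree
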