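import Cfsg.Agent.KFacts.PSpFourThree.Cent
import Cfsg.Agent.LieClassical.SympPerfect

/-!
# `PSp₄(3)`: an involution swapping `z` and `v`; generation of `K` by `C(z)` and that involution (helper931)
-/

set_option autoImplicit false
set_option linter.style.haveILetI false
set_option maxRecDepth 100000

namespace Cfsg.Agent.KFacts.PSpFourThree

open Matrix Subgroup Cfsg
open Cfsg.Agent.Lib.FieldThree (F3)
open Cfsg.Agent.SmallSimple.S1000.Order25920PSp (Mat Sp π π_mul π_one π_eq m1 m2 m3 m4)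
open Cfsg.Agent.OddHalf.Small.PSp43 (πh πh_apply comm_or eq_or_of_π_eq)
open Cfsg.Agent.ClassicalGeometry.SympBasic
open Cfsg.Agent.LieClassical.SympPerfect

namespace PE

/-- the matrix of the involution -/
noncomputable def KI : Sp := ⟨Cfsg.Agent.SmallSimple.S1000.Order25920PSp.mat
  ![![.i, .i, .m, .m], ![.i, .m, .m, .i], ![.o, .o, .m, .m], ![.o, .o, .m, .i]], by
    rw [SymplecticGroup.mem_iff]; decide +kernel⟩

theorem ki_z : π KI * z = vv.el * π KI := by
  rw [el_vv, z, el_zz, ← π_mul, ← π_mul]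
  refine π_eq ?_
  show (KI : Mat) * m3 = m4 * KI ∨ (KI : Mat) * m3 = -((m4 : Mat) * KI)
  decide +kernel

theorem ki_v : π KI * vv.el = z * π KI := by
  rw [el_vv, z, el_zz, ← π_mul, ← π_mul]
  refine π_eq ?_
  show (KI : Mat) * m4 = m3 * KI ∨ (KI : Mat) * m4 = -((m3 : Mat) * KI)
  decide +kernel

theorem ki_sq : π KI * π KI = 1 := by
  rw [← π_mul, ← π_one]
  refine π_eq ?_
  show (KI : Mat) * KI = 1 ∨ (KI : Mat) * KI = -1
  decide +kernel

/-- `v z` is not conjugate to `z` -/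
theorem not_conj (g : PSp 2 F3) : g * z ≠ vv.el * z * g := by
  obtain ⟨X, rfl⟩ := QuotientGroup.mk_surjective g
  intro h
  have h' : π X * z = vv.el * z * π X := h
  rw [el_vv, z, el_zz, ← π_mul, ← π_mul, ← π_mul] at h'
  have e0 : (m3 : Mat) * m3 = 1 := by decide +kernel
  have e1 : (m4 : Mat) * m3 * ((m4 : Mat) * m3) = -1 := by decide +kernel
  have key : (X : Mat) = -(X : Mat) := by
    rcases eq_or_of_π_eq h' with e | e
    · have e' : (X : Mat) * m3 = (m4 : Mat) * m3 * X := e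
      calc (X : Mat) = X * m3 * m3 := by rw [mul_assoc, e0, mul_one]
        _ = (m4 : Mat) * m3 * (X * m3) := by rw [← mul_assoc ((m4 : Mat) * m3), ← e']
        _ = (m4 : Mat) * m3 * ((m4 : Mat) * m3) * X := by rw [e', ← mul_assoc]
        _ = -X := by rw [e1, neg_mul, one_mul]
    · have e' : (X : Mat) * m3 = -((m4 : Mat) * m3 * X) := e
      calc (X : Mat) = X * m3 * m3 := by rw [mul_assoc, e0, mul_one]
        _ = -((m4 : Mat) * m3 * (X * m3)) := by
          rw [← mul_assoc ((m4 : Mat) * m3), ← neg_mul, ← e']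
        _ = (m4 : Mat) * m3 * ((m4 : Mat) * m3) * X := by rw [e', mul_neg, neg_neg, ← mul_assoc]
        _ = -X := by rw [e1, neg_mul, one_mul]
  have h2 : (1 : Mat) = -1 := by
    have h3 : (X : Mat) * ((X⁻¹ : Sp) : Mat) = 1 := congrArg Subtype.val (mul_inv_cancel X)
    calc (1 : Mat) = (X : Mat) * ((X⁻¹ : Sp) : Mat) := h3.symm
      _ = -(X : Mat) * ((X⁻¹ : Sp) : Mat) := by rw [← key]
      _ = -1 := by rw [neg_mul, h3]
  exact absurd h2 (by decide +kernel)

/-! ### Generation -/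

/-- the vector `e` -/
def e0 : Fin 2 ⊕ Fin 2 → F3 := Sum.elim ![.i, .o] ![.o, .o]

theorem act_check : allG (fun x => allG (fun y =>
    decide (bmm x y *ᵥ e0 = Sum.elim ![x.a, .o] ![x.c, .o]) &&
    decide ((bmm x y * (m4 : Mat)) *ᵥ e0 = Sum.elim ![.o, y.a] ![.o, y.c]) &&
    decide ((bmm x y * (KI : Mat)) *ᵥ e0 = Sum.elim ![x.a, y.a] ![x.c, y.c])) slL) slL = true := by
  decide +kernel

theorem col_check : ∀ a c : F3, (a = 0 ∧ c = 0) ∨ ∃ x ∈ slL, x.a = a ∧ x.c = c := by decide +kernel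

theorem transv_e0 (c : F3) : (transv e0 c : Mat) * m3 = m3 * (transv e0 c : Mat) := by
  rw [coe_transv]
  revert c
  decide +kernel

/-- `⟨C(z), k⟩ = K` -/
theorem gen_top {H : Subgroup (PSp 2 F3)} (hP : ∀ p : PE, p.Ok → p.el ∈ H) (hk : π KI ∈ H) : H = ⊤ := by
  set H' : Subgroup Sp := H.comap πh with hH'
  have hmem : ∀ g : Sp, g ∈ H' ↔ π g ∈ H := fun g => Iff.rfl
  have hPH : ∀ (p : PE) (hp : p.Ok), p.sp hp ∈ H' := fun p hp => by
    rw [hmem, ← el_eq hp]; exact hP p hp
  have hkH : KI ∈ H' := hk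
  have h0 : ∀ c, transv e0 c ∈ H' := by
    intro c
    have h1 : π (transv e0 c) * z = z * π (transv e0 c) := by
      rw [z, el_zz, ← π_mul, ← π_mul]
      exact π_eq (Or.inl (transv_e0 c))
    obtain ⟨p, hp, h2⟩ := exists_el h1
    rw [hmem, h2]
    exact hP p hp
  have htr : ∀ w : Fin 2 ⊕ Fin 2 → F3, w ≠ 0 → ∃ A : Sp, A ∈ H' ∧ (A : Mat) *ᵥ e0 = w := by
    intro w hw
    have hwe : w = Sum.elim ![w (.inl 0), w (.inl 1)] ![w (.inr 0), w (.inr 1)] := by
      funext i
      rcases i with i | i <;> fin_cases i <;> rfl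
    rcases col_check (w (.inl 0)) (w (.inr 0)) with ⟨ha, hc⟩ | ⟨x, hx, hxa, hxc⟩
    · rcases col_check (w (.inl 1)) (w (.inr 1)) with ⟨hb, hd⟩ | ⟨y, hy, hyb, hyd⟩
      · exfalso
        apply hw
        rw [hwe, ha, hb, hc, hd]
        funext i
        rcases i with i | i <;> fin_cases i <;> rfl
      · have hp : (PE.mk M2.one y true).Ok := ⟨det_one, slL_det y hy⟩
        refine ⟨_, hPH _ hp, ?_⟩
        have h1 := (allG_iff _ _).1 ((allG_iff _ _).1 act_check M2.one (mem_slL det_one)) y hy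
        rw [Bool.and_eq_true, Bool.and_eq_true, decide_eq_true_eq, decide_eq_true_eq] at h1
        show (bmm M2.one y * sw true) *ᵥ e0 = w
        rw [st, h1.1.2, hwe, ha, hc, ← hyb, ← hyd]
        rfl
    · rcases col_check (w (.inl 1)) (w (.inr 1)) with ⟨hb, hd⟩ | ⟨y, hy, hyb, hyd⟩
      · have hp : (PE.mk x M2.one false).Ok := ⟨slL_det x hx, det_one⟩
        refine ⟨_, hPH _ hp, ?_⟩
        have h1 := (allG_iff _ _).1 ((allG_iff _ _).1 act_check x hx) M2.one (mem_slL det_one)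
        rw [Bool.and_eq_true, Bool.and_eq_true, decide_eq_true_eq, decide_eq_true_eq] at h1
        show (bmm x M2.one * sw false) *ᵥ e0 = w
        rw [sf, mul_one, h1.1.1, hwe, hb, hd, ← hxa, ← hxc]
        rfl
      · have hp : (PE.mk x y false).Ok := ⟨slL_det x hx, slL_det y hy⟩
        refine ⟨_, H'.mul_mem (hPH _ hp) hkH, ?_⟩
        have h1 := (allG_iff _ _).1 ((allG_iff _ _).1 act_check x hx) y hy
        rw [Bool.and_eq_true, decide_eq_true_eq] at h1
        show (bmm x y * sw false * (KI : Mat)) *ᵥ e0 = w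
        rw [sf, mul_one, h1.2, hwe, ← hxa, ← hxc, ← hyb, ← hyd]
  have hall : ∀ (w : Fin 2 ⊕ Fin 2 → F3) (c : F3), transv w c ∈ H' := by
    intro w c
    by_cases hw : w = 0
    · have h1 : transv w c = 1 := by
        rw [hw, ← zero_smul F3 (0 : Fin 2 ⊕ Fin 2 → F3), transv_smul, zero_pow two_ne_zero, zero_mul, transv_zero]
      rw [h1]; exact one_mem _
    · obtain ⟨A, hA, rfl⟩ := htr w hw
      rw [← conj_transv]
      exact mul_mem (mul_mem hA (h0 c)) (inv_mem hA)
  have htop : H' = ⊤ := by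
    rw [eq_top_iff, ← Cfsg.Agent.S0765.result (F := F3) 2, closure_le]
    rintro A ⟨w, c, hA⟩
    have : A = transv w c := Subtype.ext hA
    rw [this]
    exact hall w c
  rw [eq_top_iff]
  intro g _
  obtain ⟨X, rfl⟩ := QuotientGroup.mk_surjective g
  have h1 : X ∈ H' := by rw [htop]; exact mem_top _
  exact h1

end PE

end Cfsg.Agent.KFacts.PSpFourThree
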