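import Cfsg.Agent.KFacts.PSpFourThree.Gen
import Cfsg.Agent.OddHalf.D6.QThree.FactsOut
import Cfsg.Agent.S0270
import Cfsg.Agent.S0814

/-!
# `PSp₄(3)`: `FactsOut.Aut` (helper931)
-/

set_option autoImplicit false
set_option linter.style.haveILetI false
set_option maxRecDepth 100000

namespace Cfsg.Agent.KFacts.PSpFourThree

open Matrix Subgroup Cfsg
open Cfsg.Agent.Lib.FieldThree (F3)
open Cfsg.Agent.SmallSimple.S1000.Order25920PSp (Mat Sp π π_mul π_one π_eq m1 m2 m3 m4)
open Cfsg.Agent.OddHalf.Small.PSp43 (πh πh_apply comm_or eq_or_of_π_eq)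

/-! ### Two general lemmas -/

/-- the 2-automorphism `β` fixing `d` of order three: if `β r = d r d⁻¹` then `d` commutes with `r` -/
theorem side_aux {K : Type*} [Group K] {β : MulAut K} (hβ : IsPGroup 2 (zpowers β)) {d r : K} (hd3 : d ^ 3 = 1)
    (hβd : β d = d) (h : β r = d * r * d⁻¹) : d * r = r * d := by
  obtain ⟨k, hk⟩ := hβ ⟨β, mem_zpowers β⟩
  have hk' : β ^ 2 ^ k = 1 := congrArg Subtype.val hk
  have h1 : ∀ n : ℕ, (β ^ n) r = d ^ n * r * (d ^ n)⁻¹ := by
    intro n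
    induction n with
    | zero => rw [pow_zero, pow_zero, one_mul, inv_one, mul_one]; rfl
    | succ n ih =>
      rw [pow_succ', MulAut.mul_apply, ih, map_mul, map_mul, map_inv, map_pow, hβd, h, pow_succ]
      group
  have h2 := h1 (2 ^ k)
  rw [hk'] at h2
  have h3 : d ^ (2 ^ k) * r = r * d ^ (2 ^ k) := by
    have h4 : r = d ^ (2 ^ k) * r * (d ^ (2 ^ k))⁻¹ := h2
    calc d ^ (2 ^ k) * r = d ^ (2 ^ k) * r * (d ^ (2 ^ k))⁻¹ * d ^ (2 ^ k) := by group
      _ = r * d ^ (2 ^ k) := by rw [← h4]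
  have h5 : Commute (d ^ (2 ^ k)) r := h3
  have h6 : ∃ n : ℕ, (d ^ (2 ^ k)) ^ n = d := by
    have h7 : Nat.Coprime (2 ^ k) 3 := Nat.Coprime.pow_left _ (by norm_num)
    have h8 : (2 ^ k) ^ 2 % 3 = 1 := by
      rw [← pow_mul, mul_comm, pow_mul, Nat.pow_mod]
      norm_num
    refine ⟨2 ^ k, ?_⟩
    rw [← pow_mul, ← pow_two]
    calc d ^ ((2 ^ k) ^ 2) = d ^ (3 * ((2 ^ k) ^ 2 / 3) + (2 ^ k) ^ 2 % 3) := by rw [Nat.div_add_mod]
      _ = d := by rw [h8, pow_succ, pow_mul, hd3, one_pow, one_mul]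
  obtain ⟨n, hn⟩ := h6
  have h9 : Commute d r := by
    rw [← hn]
    exact h5.pow_left n
  exact h9

theorem side {K : Type*} [Group K] {β : MulAut K} (hβ : IsPGroup 2 (zpowers β)) {d r : K} (hd3 : d ^ 3 = 1)
    (hβd : β d = d) (hne : d * r ≠ r * d)
    (h : β r = r ∨ β r = d * r * d⁻¹ ∨ β r = d⁻¹ * r * d) : β r = r := by
  rcases h with h | h | h
  · exact h
  · exact absurd (side_aux hβ hd3 hβd h) hne
  · exfalso
    have h1 : d⁻¹ * r = r * d⁻¹ := side_aux hβ (by rw [inv_pow, hd3, inv_one]) (by rw [map_inv, hβd])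
      (by rw [h, inv_inv])
    apply hne
    calc d * r = d * (r * d⁻¹) * d := by group
      _ = d * (d⁻¹ * r) * d := by rw [h1]
      _ = r * d := by group

namespace PE

/-! ### Checks -/

/-- the element of order three of the second factor -/
def d2 : PE := ⟨M2.one, tt, false⟩
/-- diagonal elements -/
def s1 : PE := ⟨q1, q1, false⟩
def s2 : PE := ⟨q2, q2, false⟩
def s3 : PE := ⟨tt, tt, false⟩

theorem ok_d2 : d2.Ok := ⟨by decide, by decide⟩
theorem ok_s1 : s1.Ok := ⟨by decide, by decide⟩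
theorem ok_s2 : s2.Ok := ⟨by decide, by decide⟩
theorem ok_s3 : s3.Ok := ⟨by decide, by decide⟩

/-- `Z(C_P(v)) = ⟨z, v⟩` -/
theorem cv_check : allPE (fun p => or (not (and (cmt p vv) (and (cmt p s1) (and (cmt p s2) (cmt p s3)))))
    (or (or (p.beqs one) (p.beqs zz)) (or (p.beqs vv) (p.beqs (zz.mul vv))))) = true := by decide +kernel

/-- cube -/
def cube (p : PE) : PE := (p.mul p).mul p

/-- the quaternion group in the first factor -/
def Q1L : List PE := [one, r1, r2, r1.mul r2, zz, r1.mul zz, r2.mul zz, (r1.mul r2).mul zz]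
/-- the quaternion group in the second factor -/
def Q2L : List PE := [one, r3, r4, r3.mul r4, zz, r3.mul zz, r4.mul zz, (r3.mul r4).mul zz]

/-- elements of order three in `R d1` are conjugate to `d1` -/
theorem d1_check : allPE (fun p => or (not (inR p)) (or (not (isOne (cube (p.mul d1))))
    (anyG (fun q => (cj q (p.mul d1)).beqs d1) Q1L))) = true := by decide +kernel

theorem d2_check : allPE (fun p => or (not (inR p)) (or (not (isOne (cube (p.mul d2))))
    (anyG (fun q => (cj q (p.mul d2)).beqs d2) Q2L))) = true := by decide +kernel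

/-- `Q₈` in the first factor -/
theorem r1_check : allPE (fun p => or (not (and (inR p) (cmt p d2)))
    (or (not ((p.mul (cj d1 p)).beqs (cj (d1.mul d1) p)))
      (or (or (p.beqs one) (p.beqs r1)) (or (p.beqs (cj d1 r1)) (p.beqs (cj d1.inv r1)))))) = true := by
  decide +kernel

theorem r3_check : allPE (fun p => or (not (and (inR p) (cmt p d1)))
    (or (not ((p.mul (cj d2 p)).beqs (cj (d2.mul d2) p)))
      (or (or (p.beqs one) (p.beqs r3)) (or (p.beqs (cj d2 r3)) (p.beqs (cj d2.inv r3)))))) = true := by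
  decide +kernel

/-- `SL₂(3) = Q₈ ⟨t⟩` -/
theorem qt_check : allG (fun x => anyG (fun t => inQ (x.mul t)) [M2.one, tt, tt2]) slL = true := by decide +kernel

theorem d1_cube : d1.el ^ 3 = 1 := by
  rw [pow_succ, pow_two, ← el_mul ok_d1 ok_d1, ← el_mul (ok_d1.mul ok_d1) ok_d1,
    el_eq_one ((ok_d1.mul ok_d1).mul ok_d1)]
  decide

theorem d2_cube : d2.el ^ 3 = 1 := by
  rw [pow_succ, pow_two, ← el_mul ok_d2 ok_d2, ← el_mul (ok_d2.mul ok_d2) ok_d2,
    el_eq_one ((ok_d2.mul ok_d2).mul ok_d2)]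
  decide

theorem el_cube {p : PE} (hp : p.Ok) : (cube p).el = p.el ^ 3 := by
  unfold cube
  rw [el_mul (hp.mul hp) hp, el_mul hp hp, pow_succ, pow_two]

theorem ok_cube {p : PE} (hp : p.Ok) : (cube p).Ok := (hp.mul hp).mul hp

theorem odd_of_cube {x : PSp 2 F3} (h : x ^ 3 = 1) : Odd (orderOf x) := by
  rcases (Nat.dvd_prime Nat.prime_three).1 (orderOf_dvd_of_pow_eq_one h) with e | e
  · rw [e]; exact odd_one
  · rw [e]; decide

theorem R_le_DD : R ≤ DD := by
  rintro _ ⟨p, hp, hR, rfl⟩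
  rw [inR_iff] at hR
  exact mem_DD hp hR.2.2

/-- `K = ⟨C(z), k⟩`, for homomorphisms -/
theorem eq_of_agree {α β : MulAut (PSp 2 F3)} (h : ∀ g, g * z = z * g → α g = β g) (hk : α (π KI) = β (π KI)) :
    α = β := by
  have h1 : MonoidHom.eqLocus (α : PSp 2 F3 →* PSp 2 F3) (β : PSp 2 F3 →* PSp 2 F3) = ⊤ :=
    gen_top (fun p hp => h _ (z_comm hp)) hk
  ext g
  have h2 : g ∈ MonoidHom.eqLocus (α : PSp 2 F3 →* PSp 2 F3) (β : PSp 2 F3 →* PSp 2 F3) := by
    rw [h1]; exact mem_top _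
  exact h2

/-- an automorphism trivial on the elements of odd order of `C(z)` is trivial on `C(z)` -/
theorem fix_P {α : MulAut (PSp 2 F3)} (hz : α z = z) (h : ∀ x, x * z = z * x → Odd (orderOf x) → α x = x) :
    ∀ g, g * z = z * g → α g = g := by
  have hD : ∀ d ∈ DD, α d = d := by
    intro d hd
    refine closure_induction (p := fun d _ => α d = d) ?_ ?_ ?_ ?_ hd
    · intro x hx
      exact h x hx.1 hx.2
    · exact map_one α
    · intro x y _ _ hx hy
      rw [map_mul, hx, hy]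
    · intro x _ hx
      rw [map_inv, hx]
  have hvv : vv.el * vv.el = 1 := by
    rw [← el_mul ok_vv ok_vv, el_eq_one (ok_vv.mul ok_vv)]
    decide
  have hnorm : ∀ r ∈ R, vv.el * r * (vv.el)⁻¹ ∈ R := fun r hr => R_norm (z_comm ok_vv) hr
  have hvi : (vv.el)⁻¹ = vv.el := inv_eq_of_mul_eq_one_left hvv
  have hvz : vv.el * z = z * vv.el := z_comm ok_vv
  have hc : (vv.el)⁻¹ * α vv.el = 1 ∨ (vv.el)⁻¹ * α vv.el = z := by
    apply cent_R
    · have h1 : α vv.el * z = z * α vv.el := by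
        have := congrArg α hvz
        rwa [map_mul, map_mul, hz] at this
      rw [mul_assoc, h1, ← mul_assoc, ← mul_assoc, hvi, hvz]
    · intro r hr
      have h1 : α (vv.el * r * (vv.el)⁻¹) = vv.el * r * (vv.el)⁻¹ := hD _ (R_le_DD (hnorm r hr))
      rw [map_mul, map_mul, map_inv, hD r (R_le_DD hr)] at h1
      have h2 : α vv.el * r = vv.el * r * (vv.el)⁻¹ * α vv.el := by
        rw [← h1]; group
      rw [mul_assoc, h2]
      group
  have hv : α vv.el = vv.el := by
    rcases hc with h1 | h1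
    · have := congrArg (vv.el * ·) h1
      simpa only [mul_inv_cancel_left, mul_one] using this
    · exfalso
      have h2 : α vv.el = vv.el * z := by
        have := congrArg (vv.el * ·) h1
        simpa only [mul_inv_cancel_left] using this
      have h3 := congrArg α ki_z
      rw [map_mul, map_mul, hz, h2] at h3
      exact not_conj _ h3
  intro g hg
  obtain ⟨p, hp, rfl⟩ := exists_el hg
  cases hs : p.s
  · exact hD _ (mem_DD hp hs)
  · have h1 : (vv.mul p).el ∈ DD := by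
      refine mem_DD (ok_vv.mul hp) ?_
      show (!p.s) = false
      rw [hs]; rfl
    have h2 := hD _ h1
    rw [el_mul ok_vv hp, map_mul, hv] at h2
    exact mul_left_cancel h2

/-- **`a1`** -/
theorem a1 (α : MulAut (PSp 2 F3)) (hz : α z = z) (h : ∀ x, x * z = z * x → Odd (orderOf x) → α x = x) :
    α = 1 ∨ α = MulAut.conj z := by
  have hP := fix_P hz h
  set k := π KI with hk
  have kz : k * z = vv.el * k := ki_z
  have kv : k * vv.el = z * k := ki_v
  have kk : k * k = 1 := ki_sq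
  have hv : α vv.el = vv.el := hP _ (z_comm ok_vv)
  have hvv : vv.el * vv.el = 1 := by
    rw [← el_mul ok_vv ok_vv, el_eq_one (ok_vv.mul ok_vv)]
    decide
  have hvz : vv.el * z = z * vv.el := z_comm ok_vv
  have akz : α k * z = vv.el * α k := by
    have := congrArg α kz
    rwa [map_mul, map_mul, hz, hv] at this
  have akk : α k * α k = 1 := by rw [← map_mul, kk, map_one]
  set c := k⁻¹ * α k with hcdef
  have hkc : α k = k * c := by rw [hcdef, mul_inv_cancel_left]
  have hcz : c * z = z * c := by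
    have e : k⁻¹ * vv.el = z * k⁻¹ := by
      rw [eq_mul_inv_iff_mul_eq, mul_assoc, ← kz, inv_mul_cancel_left]
    rw [hcdef, mul_assoc, akz, ← mul_assoc, e, mul_assoc]
  have hcx : ∀ x, x * z = z * x → x * vv.el = vv.el * x → c * x = x * c := by
    intro x hx hxv
    have h1 : k * x * k⁻¹ * z = z * (k * x * k⁻¹) := by
      have e : k⁻¹ * z = vv.el * k⁻¹ := by
        rw [eq_mul_inv_iff_mul_eq, mul_assoc, ← kv, inv_mul_cancel_left]
      calc k * x * k⁻¹ * z = k * x * (k⁻¹ * z) := by group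
        _ = k * (x * vv.el) * k⁻¹ := by rw [e]; group
        _ = k * vv.el * x * k⁻¹ := by rw [hxv]; group
        _ = z * (k * x * k⁻¹) := by rw [kv]; group
    have h2 := hP _ h1
    rw [map_mul, map_mul, map_inv, hP x hx] at h2
    have h3 : α k * x = k * x * k⁻¹ * α k := by rw [← h2]; group
    calc c * x = k⁻¹ * (α k * x) := by rw [hcdef]; group
      _ = x * c := by rw [h3, hcdef]; group
  obtain ⟨p, hp, hpc⟩ := exists_el hcz
  have hcheck := allPE_spec cv_check hp
  have hcm : ∀ q : PE, q.Ok → q.el * vv.el = vv.el * q.el → cmt p q = true := by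
    intro q hq hqv
    rw [← comm_iff hp hq, ← hpc]
    exact hcx _ (z_comm hq) hqv
  have e1 : cmt p vv = true := hcm vv ok_vv rfl
  have e2 : cmt p s1 = true := hcm s1 ok_s1 ((comm_iff ok_s1 ok_vv).2 (by decide))
  have e3 : cmt p s2 = true := hcm s2 ok_s2 ((comm_iff ok_s2 ok_vv).2 (by decide))
  have e4 : cmt p s3 = true := hcm s3 ok_s3 ((comm_iff ok_s3 ok_vv).2 (by decide))
  rw [e1, e2, e3, e4] at hcheck
  have hcheck' : ((p.beqs one || p.beqs zz) || (p.beqs vv || p.beqs (zz.mul vv))) = true := hcheck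
  rw [Bool.or_eq_true, Bool.or_eq_true, Bool.or_eq_true] at hcheck'
  have hkckc : k * c * (k * c) = 1 := by rw [← hkc]; exact akk
  rcases hcheck' with (h1 | h1) | (h1 | h1)
  · left
    have hc1 : c = 1 := by rw [hpc, eq_el hp ok_one h1, el_one]
    refine eq_of_agree (fun g hg => (hP g hg).trans rfl) ?_
    show α k = k
    rw [hkc, hc1, mul_one]
  · exfalso
    have hc1 : c = z := by rw [hpc]; exact eq_el hp ok_zz h1
    rw [hc1] at hkckc
    have h2 : vv.el * z = 1 := by
      calc vv.el * z = vv.el * (k * k) * z := by rw [kk, mul_one]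
        _ = (vv.el * k) * (k * z) := by group
        _ = 1 := by rw [← kz]; exact hkckc
    rw [← el_one, z, ← el_mul ok_vv ok_zz, el_eq_iff (ok_vv.mul ok_zz) ok_one] at h2
    exact absurd h2 (by decide)
  · exfalso
    have hc1 : c = vv.el := by rw [hpc]; exact eq_el hp ok_vv h1
    rw [hc1] at hkckc
    have h2 : z * vv.el = 1 := by
      calc z * vv.el = z * (k * k) * vv.el := by rw [kk, mul_one]
        _ = (z * k) * (k * vv.el) := by group
        _ = 1 := by rw [← kv]; exact hkckc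
    rw [← el_one, z, ← el_mul ok_zz ok_vv, el_eq_iff (ok_zz.mul ok_vv) ok_one] at h2
    exact absurd h2 (by decide)
  · right
    have hc1 : c = z * vv.el := by
      rw [hpc, eq_el hp (ok_zz.mul ok_vv) h1, el_mul ok_zz ok_vv]
      rfl
    have hzi : z⁻¹ = z := inv_eq_of_mul_eq_one_left z_mul_z
    refine eq_of_agree (fun g hg => (hP g hg).trans ?_) ?_
    · rw [MulAut.conj_apply, ← hg, mul_inv_cancel_right]
    · show α k = MulAut.conj z k
      rw [MulAut.conj_apply, hzi, hkc, hc1, ← kv]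
      rw [mul_assoc k vv.el z, hvz]

/-! ### `a2` -/

/-- the hypothesis of `a2` -/
structure Good (α : MulAut (PSp 2 F3)) : Prop where
  two : IsPGroup 2 (zpowers α)
  hz : α z = z
  dR : ∀ x, x * z = z * x → Odd (orderOf x) → α x * x⁻¹ ∈ R

theorem map_R {α : MulAut (PSp 2 F3)} (hz : α z = z) {r : PSp 2 F3} (hr : r ∈ R) : α r ∈ R := by
  have h1 : R.map (α : PSp 2 F3 →* PSp 2 F3) ≤ R := by
    apply max_R
    · exact isPGroup_R.map _
    · rintro _ ⟨x, hx, rfl⟩
      show α x * z = z * α x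
      have := congrArg α (R_comm hx)
      rwa [map_mul, map_mul, hz] at this
    · rintro g hg _ ⟨x, hx, rfl⟩
      show g * α x * g⁻¹ ∈ R.map (α : PSp 2 F3 →* PSp 2 F3)
      obtain ⟨y, rfl⟩ := α.surjective g
      have hy : y * z = z * y := by
        apply α.injective
        rw [map_mul, map_mul, hz]
        exact hg
      refine ⟨y * x * y⁻¹, R_norm hy hx, ?_⟩
      show α (y * x * y⁻¹) = _
      rw [map_mul, map_mul, map_inv]
  exact h1 ⟨r, hr, rfl⟩

theorem inv_z {α : MulAut (PSp 2 F3)} (hz : α z = z) : α⁻¹ z = z := by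
  conv_lhs => rw [← hz]
  exact MulAut.inv_apply_self _ α z

theorem mem_map_R_iff {α : MulAut (PSp 2 F3)} (hz : α z = z) {r : PSp 2 F3} : α r ∈ R ↔ r ∈ R := by
  constructor
  · intro h
    have h1 := map_R (inv_z hz) h
    rwa [MulAut.inv_apply_self] at h1
  · exact map_R hz

theorem conj_mul_conj (α : MulAut (PSp 2 F3)) (r : PSp 2 F3) : α * MulAut.conj r * α⁻¹ = MulAut.conj (α r) := by
  ext x
  show α (r * α⁻¹ x * r⁻¹) = α r * x * (α r)⁻¹
  rw [map_mul, map_mul, map_inv, MulAut.apply_inv_self]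

theorem Good.conj {α : MulAut (PSp 2 F3)} (h : Good α) {r : PSp 2 F3} (hr : r ∈ R) : Good (MulAut.conj r * α) where
  two := by
    have h1 : IsPGroup 2 (R.map (MulAut.conj : PSp 2 F3 →* MulAut (PSp 2 F3))) := isPGroup_R.map _
    have h2 : zpowers α ≤ normalizer (R.map (MulAut.conj : PSp 2 F3 →* MulAut (PSp 2 F3)) : Set (MulAut (PSp 2 F3))) := by
      have h3 : ∀ β : MulAut (PSp 2 F3), β z = z → ∀ g ∈ R.map (MulAut.conj : PSp 2 F3 →* MulAut (PSp 2 F3)),
          β * g * β⁻¹ ∈ R.map (MulAut.conj : PSp 2 F3 →* MulAut (PSp 2 F3)) := by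
        rintro β hβ _ ⟨x, hx, rfl⟩
        exact ⟨β x, map_R hβ hx, (conj_mul_conj β x).symm⟩
      rw [zpowers_le, mem_normalizer_iff]
      intro g
      constructor
      · exact h3 α h.hz g
      · intro hg
        have h4 := h3 α⁻¹ (inv_z h.hz) _ hg
        have e : α⁻¹ * (α * g * α⁻¹) * α⁻¹⁻¹ = g := by group
        rwa [e] at h4
    have h3 : IsPGroup 2 (R.map (MulAut.conj : PSp 2 F3 →* MulAut (PSp 2 F3)) ⊔ zpowers α : Subgroup (MulAut (PSp 2 F3))) :=
      IsPGroup.to_sup_of_normal_left' h1 h.two h2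
    refine h3.to_le ?_
    rw [zpowers_le]
    exact mul_mem (mem_sup_left ⟨r, hr, rfl⟩) (mem_sup_right (mem_zpowers α))
  hz := by
    rw [MulAut.mul_apply, h.hz, MulAut.conj_apply, R_comm hr, mul_inv_cancel_right]
  dR := by
    intro x hx hox
    have h1 := h.dR x hx hox
    have h2 : x * r⁻¹ * x⁻¹ ∈ R := R_norm hx (inv_mem hr)
    have e : (MulAut.conj r * α) x * x⁻¹ = r * (α x * x⁻¹) * (x * r⁻¹ * x⁻¹) := by
      rw [MulAut.mul_apply, MulAut.conj_apply]; group
    rw [e]
    exact mul_mem (mul_mem hr h1) h2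

theorem ok_Q1L : ∀ q ∈ Q1L, q.Ok ∧ inR q = true ∧ cmt q d2 = true := by
  unfold Ok
  decide +kernel

theorem ok_Q2L : ∀ q ∈ Q2L, q.Ok ∧ inR q = true ∧ cmt q d1 = true := by
  unfold Ok
  decide +kernel

/-- an automorphism fixing `z`, the `r_i`, `d1` and `d2` fixes the elements of odd order of `C(z)` -/
theorem fix_odd {β : MulAut (PSp 2 F3)} (hz : β z = z) (h1 : β r1.el = r1.el) (h2 : β r2.el = r2.el)
    (h3 : β r3.el = r3.el) (h4 : β r4.el = r4.el) (hd1 : β d1.el = d1.el) (hd2 : β d2.el = d2.el) :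
    ∀ x, x * z = z * x → Odd (orderOf x) → β x = x := by
  set N : Subgroup (PSp 2 F3) := MonoidHom.eqLocus (β : PSp 2 F3 →* PSp 2 F3) (MonoidHom.id _) with hN
  have hmem : ∀ x, x ∈ N ↔ β x = x := fun x => Iff.rfl
  have hR : R ≤ N := R_le hz h1 h2 h3 h4
  have key1 : ∀ x : M2, x.det = 1 → (PE.mk x M2.one false).el ∈ N := by
    intro x hx
    have h := (allG_iff _ _).1 qt_check x (mem_slL hx)
    rw [anyG_iff] at h
    obtain ⟨t, ht, hq⟩ := h
    have ht' : t.det = 1 ∧ (PE.mk t M2.one false).el ∈ N := by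
      simp only [List.mem_cons, List.not_mem_nil, or_false] at ht
      rcases ht with rfl | rfl | rfl
      · refine ⟨by decide, ?_⟩
        show one.el ∈ N
        rw [el_one]; exact one_mem _
      · exact ⟨by decide, hd1⟩
      · refine ⟨by decide, ?_⟩
        have e : (PE.mk tt2 M2.one false).el = (d1.mul d1).el := eq_el ⟨by decide, by decide⟩ (ok_d1.mul ok_d1) (by decide)
        rw [e, el_mul ok_d1 ok_d1]
        exact mul_mem hd1 hd1
    have hot : (PE.mk t M2.one false).Ok := ⟨ht'.1, det_one⟩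
    have hox : (PE.mk x M2.one false).Ok := ⟨hx, det_one⟩
    have h5 : ((PE.mk x M2.one false).mul (PE.mk t M2.one false)).el ∈ N := by
      apply hR
      rw [mem_R (hox.mul hot), inR_iff]
      refine ⟨hq, ?_, rfl⟩
      show inQ (M2.one.mul M2.one) = true
      decide
    rw [el_mul hox hot] at h5
    exact (mul_mem_cancel_right ht'.2).1 h5
  have key2 : ∀ x : M2, x.det = 1 → (PE.mk M2.one x false).el ∈ N := by
    intro x hx
    have h := (allG_iff _ _).1 qt_check x (mem_slL hx)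
    rw [anyG_iff] at h
    obtain ⟨t, ht, hq⟩ := h
    have ht' : t.det = 1 ∧ (PE.mk M2.one t false).el ∈ N := by
      simp only [List.mem_cons, List.not_mem_nil, or_false] at ht
      rcases ht with rfl | rfl | rfl
      · refine ⟨by decide, ?_⟩
        show one.el ∈ N
        rw [el_one]; exact one_mem _
      · exact ⟨by decide, hd2⟩
      · refine ⟨by decide, ?_⟩
        have e : (PE.mk M2.one tt2 false).el = (d2.mul d2).el := eq_el ⟨by decide, by decide⟩ (ok_d2.mul ok_d2) (by decide)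
        rw [e, el_mul ok_d2 ok_d2]
        exact mul_mem hd2 hd2
    have hot : (PE.mk M2.one t false).Ok := ⟨det_one, ht'.1⟩
    have hox : (PE.mk M2.one x false).Ok := ⟨det_one, hx⟩
    have h5 : ((PE.mk M2.one x false).mul (PE.mk M2.one t false)).el ∈ N := by
      apply hR
      rw [mem_R (hox.mul hot), inR_iff]
      refine ⟨?_, hq, rfl⟩
      show inQ (M2.one.mul M2.one) = true
      decide
    rw [el_mul hox hot] at h5
    exact (mul_mem_cancel_right ht'.2).1 h5
  have key : ∀ p : PE, p.Ok → p.s = false → p.el ∈ N := by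
    rintro ⟨x, y, s⟩ hp hs
    have hs' : s = false := hs
    subst hs'
    have e : (PE.mk x y false) = (PE.mk x M2.one false).mul (PE.mk M2.one y false) := by
      show _ = (⟨x.mul M2.one, M2.one.mul y, false⟩ : PE)
      rw [M2_mul_one, M2_one_mul]
    have hox : (PE.mk x M2.one false).Ok := ⟨hp.1, det_one⟩
    have hoy : (PE.mk M2.one y false).Ok := ⟨det_one, hp.2⟩
    rw [e, el_mul hox hoy]
    exact mul_mem (key1 x hp.1) (key2 y hp.2)
  intro x hx hox
  obtain ⟨p, hp, rfl⟩ := exists_el hx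
  rw [← hmem]
  have hsq : p.el * p.el ∈ N := by
    rw [← el_mul hp hp]
    refine key _ (hp.mul hp) ?_
    obtain ⟨a, b, s⟩ := p
    cases s <;> rfl
  obtain ⟨m, hm⟩ := hox
  have e : p.el = (p.el * p.el) ^ (m + 1) := by
    have h5 : p.el ^ (2 * m + 1) = 1 := by rw [← hm]; exact pow_orderOf_eq_one _
    rw [← pow_two, ← pow_mul, show 2 * (m + 1) = (2 * m + 1) + 1 by ring, pow_succ, h5, one_mul]
  rw [e]
  exact pow_mem hsq _

/-- **`a2`** -/
theorem a2 (α : MulAut (PSp 2 F3)) (h2 : IsPGroup 2 (zpowers α)) (hz : α z = z)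
    (h : ∀ x, x * z = z * x → Odd (orderOf x) → α x * x⁻¹ ∈ R) : ∃ r ∈ R, α = MulAut.conj r := by
  have g0 : Good α := ⟨h2, hz, h⟩
  -- first factor
  obtain ⟨a, ha, hac, ha1⟩ : ∃ a ∈ R, a * d2.el = d2.el * a ∧ (MulAut.conj a * α) d1.el = d1.el := by
    obtain ⟨p, hp, hR, e⟩ := h d1.el (z_comm ok_d1) (odd_of_cube d1_cube)
    have e' : α d1.el = (p.mul d1).el := by
      rw [el_mul hp ok_d1, ← e, inv_mul_cancel_right]
    have hc := allPE_spec d1_check hp
    have h3 : isOne (cube (p.mul d1)) = true := by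
      rw [← el_eq_one (ok_cube (hp.mul ok_d1)), el_cube (hp.mul ok_d1), ← e', ← map_pow, d1_cube, map_one]
    rw [hR, h3] at hc
    have hc' : anyG (fun q => (cj q (p.mul d1)).beqs d1) Q1L = true := hc
    rw [anyG_iff] at hc'
    obtain ⟨q, hq, hq2⟩ := hc'
    obtain ⟨k1, k2, k3⟩ := ok_Q1L q hq
    refine ⟨q.el, (mem_R k1).2 k2, (comm_iff k1 ok_d2).2 k3, ?_⟩
    rw [MulAut.mul_apply, MulAut.conj_apply, e', ← el_cj k1 (hp.mul ok_d1)]
    exact eq_el (ok_cj k1 (hp.mul ok_d1)) ok_d1 hq2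
  have g1 : Good (MulAut.conj a * α) := g0.conj ha
  -- second factor
  obtain ⟨b, hb, hbc, hb1⟩ : ∃ b ∈ R, b * d1.el = d1.el * b ∧ (MulAut.conj b * (MulAut.conj a * α)) d2.el = d2.el := by
    obtain ⟨p, hp, hR, e⟩ := g1.dR d2.el (z_comm ok_d2) (odd_of_cube d2_cube)
    have e' : (MulAut.conj a * α) d2.el = (p.mul d2).el := by
      rw [el_mul hp ok_d2, ← e, inv_mul_cancel_right]
    have hc := allPE_spec d2_check hp
    have h3 : isOne (cube (p.mul d2)) = true := by
      rw [← el_eq_one (ok_cube (hp.mul ok_d2)), el_cube (hp.mul ok_d2), ← e', ← map_pow, d2_cube, map_one]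
    rw [hR, h3] at hc
    have hc' : anyG (fun q => (cj q (p.mul d2)).beqs d2) Q2L = true := hc
    rw [anyG_iff] at hc'
    obtain ⟨q, hq, hq2⟩ := hc'
    obtain ⟨k1, k2, k3⟩ := ok_Q2L q hq
    refine ⟨q.el, (mem_R k1).2 k2, (comm_iff k1 ok_d1).2 k3, ?_⟩
    rw [MulAut.mul_apply, MulAut.conj_apply, e', ← el_cj k1 (hp.mul ok_d2)]
    exact eq_el (ok_cj k1 (hp.mul ok_d2)) ok_d2 hq2
  have g2 : Good (MulAut.conj b * (MulAut.conj a * α)) := g1.conj hb
  set β : MulAut (PSp 2 F3) := MulAut.conj b * (MulAut.conj a * α) with hβ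
  have hd1 : β d1.el = d1.el := by
    rw [hβ, MulAut.mul_apply, ha1, MulAut.conj_apply, hbc, mul_inv_cancel_right]
  have hd2 : β d2.el = d2.el := hb1
  -- the quaternion groups
  have side1 : β r1.el = r1.el := by
    refine side g2.two d1_cube hd1 (fun hh => absurd ((comm_iff ok_d1 ok_r1).1 hh) (by decide)) ?_
    obtain ⟨p, hp, hR, e⟩ := map_R g2.hz ((mem_R ok_r1).2 (by decide : inR r1 = true))
    have hc := allPE_spec r1_check hp
    have k1 : cmt p d2 = true := by
      rw [← comm_iff hp ok_d2, ← e, ← hd2, ← map_mul, ← map_mul, (comm_iff ok_r1 ok_d2).2 (by decide)]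
    have k2 : (p.mul (cj d1 p)).beqs (cj (d1.mul d1) p) = true := by
      rw [← el_eq_iff (hp.mul (ok_cj ok_d1 hp)) (ok_cj (ok_d1.mul ok_d1) hp), el_mul hp (ok_cj ok_d1 hp),
        el_cj ok_d1 hp, el_cj (ok_d1.mul ok_d1) hp, el_mul ok_d1 ok_d1, ← e]
      have h5 : r1.el * (d1.el * r1.el * (d1.el)⁻¹) = d1.el * d1.el * r1.el * (d1.el * d1.el)⁻¹ := by
        rw [← el_cj ok_d1 ok_r1, ← el_mul ok_d1 ok_d1, ← el_cj (ok_d1.mul ok_d1) ok_r1, ← el_mul ok_r1 (ok_cj ok_d1 ok_r1)]
        exact eq_el (ok_r1.mul (ok_cj ok_d1 ok_r1)) (ok_cj (ok_d1.mul ok_d1) ok_r1) (by decide)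
      have h6 := congrArg β h5
      simp only [map_mul, map_inv, hd1] at h6
      exact h6
    rw [hR, k1, k2] at hc
    have hc' : ((p.beqs one || p.beqs r1) || (p.beqs (cj d1 r1) || p.beqs (cj d1.inv r1))) = true := hc
    rw [Bool.or_eq_true, Bool.or_eq_true, Bool.or_eq_true] at hc'
    rcases hc' with (h5 | h5) | (h5 | h5)
    · exfalso
      have h6 : β r1.el = 1 := by rw [e, eq_el hp ok_one h5, el_one]
      have h7 : r1.el = 1 := β.injective (by rw [h6, map_one])
      rw [el_eq_one ok_r1] at h7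
      exact absurd h7 (by decide)
    · left; rw [e, eq_el hp ok_r1 h5]
    · right; left
      rw [e, eq_el hp (ok_cj ok_d1 ok_r1) h5, el_cj ok_d1 ok_r1]
    · right; right
      rw [e, eq_el hp (ok_cj ok_d1.inv ok_r1) h5, el_cj ok_d1.inv ok_r1, el_inv ok_d1, inv_inv]
  have side2 : β r3.el = r3.el := by
    refine side g2.two d2_cube hd2 (fun hh => absurd ((comm_iff ok_d2 ok_r3).1 hh) (by decide)) ?_
    obtain ⟨p, hp, hR, e⟩ := map_R g2.hz ((mem_R ok_r3).2 (by decide : inR r3 = true))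
    have hc := allPE_spec r3_check hp
    have k1 : cmt p d1 = true := by
      rw [← comm_iff hp ok_d1, ← e, ← hd1, ← map_mul, ← map_mul, (comm_iff ok_r3 ok_d1).2 (by decide)]
    have k2 : (p.mul (cj d2 p)).beqs (cj (d2.mul d2) p) = true := by
      rw [← el_eq_iff (hp.mul (ok_cj ok_d2 hp)) (ok_cj (ok_d2.mul ok_d2) hp), el_mul hp (ok_cj ok_d2 hp),
        el_cj ok_d2 hp, el_cj (ok_d2.mul ok_d2) hp, el_mul ok_d2 ok_d2, ← e]
      have h5 : r3.el * (d2.el * r3.el * (d2.el)⁻¹) = d2.el * d2.el * r3.el * (d2.el * d2.el)⁻¹ := by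
        rw [← el_cj ok_d2 ok_r3, ← el_mul ok_d2 ok_d2, ← el_cj (ok_d2.mul ok_d2) ok_r3, ← el_mul ok_r3 (ok_cj ok_d2 ok_r3)]
        exact eq_el (ok_r3.mul (ok_cj ok_d2 ok_r3)) (ok_cj (ok_d2.mul ok_d2) ok_r3) (by decide)
      have h6 := congrArg β h5
      simp only [map_mul, map_inv, hd2] at h6
      exact h6
    rw [hR, k1, k2] at hc
    have hc' : ((p.beqs one || p.beqs r3) || (p.beqs (cj d2 r3) || p.beqs (cj d2.inv r3))) = true := hc
    rw [Bool.or_eq_true, Bool.or_eq_true, Bool.or_eq_true] at hc'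
    rcases hc' with (h5 | h5) | (h5 | h5)
    · exfalso
      have h6 : β r3.el = 1 := by rw [e, eq_el hp ok_one h5, el_one]
      have h7 : r3.el = 1 := β.injective (by rw [h6, map_one])
      rw [el_eq_one ok_r3] at h7
      exact absurd h7 (by decide)
    · left; rw [e, eq_el hp ok_r3 h5]
    · right; left
      rw [e, eq_el hp (ok_cj ok_d2 ok_r3) h5, el_cj ok_d2 ok_r3]
    · right; right
      rw [e, eq_el hp (ok_cj ok_d2.inv ok_r3) h5, el_cj ok_d2.inv ok_r3, el_inv ok_d2, inv_inv]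
  have er2 : r2.el = d1.el * r1.el * (d1.el)⁻¹ := by
    rw [← el_cj ok_d1 ok_r1]
    exact eq_el ok_r2 (ok_cj ok_d1 ok_r1) (by decide)
  have er4 : r4.el = d2.el * r3.el * (d2.el)⁻¹ := by
    rw [← el_cj ok_d2 ok_r3]
    exact eq_el ok_r4 (ok_cj ok_d2 ok_r3) (by decide)
  have hr2 : β r2.el = r2.el := by rw [er2, map_mul, map_mul, map_inv, hd1, side1]
  have hr4 : β r4.el = r4.el := by rw [er4, map_mul, map_mul, map_inv, hd2, side2]
  have hfix := fix_odd g2.hz side1 hr2 side2 hr4 hd1 hd2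
  have hαβ : α = MulAut.conj ((b * a)⁻¹) * β := by
    rw [hβ, map_inv, map_mul]; group
  rcases a1 β g2.hz hfix with h5 | h5
  · exact ⟨(b * a)⁻¹, inv_mem (mul_mem hb ha), by rw [hαβ, h5, mul_one]⟩
  · exact ⟨(b * a)⁻¹ * z, mul_mem (inv_mem (mul_mem hb ha)) base.zR, by rw [hαβ, h5, ← map_mul]⟩

/-! ### `out` -/

/-- `|Out(PSp₄(3))| = 2` -/
theorem out : (MulAut.conj : PSp 2 F3 →* MulAut (PSp 2 F3)).range.index = 2 := by
  have hcard : Fintype.card F3 = 3 ^ 1 := by rw [Cfsg.Agent.Lib.FieldThree.F3.card]; norm_num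
  have h3 : Fact (Nat.Prime 3) := ⟨Nat.prime_three⟩
  have h1 := Cfsg.Agent.S0814.result (F := F3) 3 1 le_rfl hcard 2 le_rfl (fun _ => by norm_num)
  have h2 : Nat.card (MulAut (PSp 2 F3)) = 2 * Nat.card (PSp 2 F3) := by
    rw [h1]; norm_num
  have hs : IsSimpleGroup (PSp 2 F3) := Cfsg.Agent.S0270.result (F := F3) 2 le_rfl (fun _ => by
    rw [Cfsg.Agent.Lib.FieldThree.F3.card])
  have hinj : Function.Injective (MulAut.conj : PSp 2 F3 →* MulAut (PSp 2 F3)) := by
    rw [← MonoidHom.ker_eq_bot_iff]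
    rcases hs.eq_bot_or_eq_top_of_normal _ (MonoidHom.normal_ker (MulAut.conj : PSp 2 F3 →* MulAut (PSp 2 F3))) with h | h
    · exact h
    · exfalso
      have h5 : r1.el * r2.el = r2.el * r1.el := by
        have h6 : MulAut.conj r1.el = 1 := by
          rw [← MonoidHom.mem_ker, h]; exact mem_top _
        have h7 : MulAut.conj r1.el r2.el = r2.el := by rw [h6]; rfl
        rw [MulAut.conj_apply] at h7
        exact mul_inv_eq_iff_eq_mul.1 h7
      exact absurd ((comm_iff ok_r1 ok_r2).1 h5) (by decide)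
  have h4 := (MulAut.conj : PSp 2 F3 →* MulAut (PSp 2 F3)).range.card_mul_index
  rw [h2, Nat.card_congr (MonoidHom.ofInjective hinj).symm.toEquiv] at h4
  have h5 : 0 < Nat.card (PSp 2 F3) := Nat.card_pos
  have h6 : Nat.card (PSp 2 F3) * (MulAut.conj : PSp 2 F3 →* MulAut (PSp 2 F3)).range.index =
      Nat.card (PSp 2 F3) * 2 := by rw [h4, mul_comm]
  exact Nat.eq_of_mul_eq_mul_left h5 h6

/-- **`FactsOut.Aut` for `PSp₄(3)`** -/
theorem aut : Cfsg.Agent.OddHalf.D6.QThree.FactsOut.Aut z R where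
  out := by rw [out]
  a1 := a1
  a2 := a2

end PE

end Cfsg.Agent.KFacts.PSpFourThree
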