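import Cfsg.Agent.KFacts.PSpFourThree.Main
import Cfsg.Agent.KFacts.PSpFourThree.Out
import Cfsg.Agent.OddHalf.D6.QThree.TransportOut

/-!
# `PSp₄(3)`: `Facts.Three` and `FactsOut.Aut` for every group isomorphic to `PSp 2 F`, `|F| = 3` (helper931)
-/

set_option autoImplicit false

namespace Cfsg.Agent.KFacts.PSpFourThree

open Cfsg
open Cfsg.Agent.OddHalf.D6.QThree.Facts
open Cfsg.Agent.OddHalf.D6.QThree

/-- `Three` and `Aut` for the same `z`, `R` -/
theorem exists_three_aut {K : Type*} [Group K] {F : Type*} [Field F] [Fintype F] (hF : Fintype.card F = 3)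
    (e : Nonempty (K ≃* PSp 2 F)) : ∃ (z : K) (R : Subgroup K), Three z R ∧ FactsOut.Aut z R := by
  obtain ⟨e⟩ := e
  exact ⟨_, _, three.map (e.trans
    (Cfsg.Agent.LieClassical.FieldTransfer.pspCongr 2 (Cfsg.Agent.Lib.FieldThree.equivOfCard hF))).symm,
    PE.aut.map (e.trans
    (Cfsg.Agent.LieClassical.FieldTransfer.pspCongr 2 (Cfsg.Agent.Lib.FieldThree.equivOfCard hF))).symm⟩

end Cfsg.Agent.KFacts.PSpFourThree
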