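import Cfsg.Agent.OddHalf.Small.PSp43

/-!
# The centraliser of a 2-central involution of `PSp₄(3)`: a computable model (helper931)

`PE`: pairs of `2 × 2` matrices over `F3` and a sign bit; `PE.mat`: the symplectic matrix; `PE.el x : PSp 2 F3`.
Every element of `PSp 2 F3` commuting with `z = π m3` is `x.el` (`exists_pe`), and `x.el = y.el` is decided by `beqs`.
-/

set_option autoImplicit false
set_option linter.style.haveILetI false

namespace Cfsg.Agent.KFacts.PSpFourThree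

open Matrix Subgroup Cfsg
open Cfsg.Agent.Lib.FieldThree (F3)
open Cfsg.Agent.SmallSimple.S1000.Order25920PSp (Mat Sp π π_mul π_one π_eq m1 m2 m3 m4)
open Cfsg.Agent.OddHalf.Small.PSp43 (bm bm_mul bm_inj one_eq m3_eq exists_bm det_of_mem inv_eq_of_mul eq_or_of_π_eq
  comm_or m4_inv m4_inv' m43 Pm m4_eq J_eq bm_transpose)

/-! ### Matrices of degree two -/

/-- `2 × 2` matrices over `F3` -/
structure M2 where
  a : F3
  b : F3
  c : F3
  d : F3
  deriving DecidableEq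

namespace M2

/-- product -/
def mul (x y : M2) : M2 :=
  ⟨x.a * y.a + x.b * y.c, x.a * y.b + x.b * y.d, x.c * y.a + x.d * y.c, x.c * y.b + x.d * y.d⟩
/-- unit -/
def one : M2 := ⟨1, 0, 0, 1⟩
/-- minus -/
def neg (x : M2) : M2 := ⟨-x.a, -x.b, -x.c, -x.d⟩
/-- adjugate -/
def inv (x : M2) : M2 := ⟨x.d, -x.b, -x.c, x.a⟩
/-- determinant -/
def det (x : M2) : F3 := x.a * x.d - x.b * x.c

end M2

/-- equality in `F3` -/
def eq3 : F3 → F3 → Bool
  | .o, .o => true
  | .i, .i => true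
  | .m, .m => true
  | _, _ => false

theorem eq3_iff : ∀ x y : F3, eq3 x y = true ↔ x = y := by decide

/-- equality of matrices -/
def M2.beq (x y : M2) : Bool :=
  and (eq3 x.a y.a) (and (eq3 x.b y.b) (and (eq3 x.c y.c) (eq3 x.d y.d)))

theorem M2.beq_iff (x y : M2) : x.beq y = true ↔ x = y := by
  obtain ⟨a, b, c, d⟩ := x
  obtain ⟨a', b', c', d'⟩ := y
  show and (eq3 a a') (and (eq3 b b') (and (eq3 c c') (eq3 d d'))) = true ↔ _
  rw [Bool.and_eq_true, Bool.and_eq_true, Bool.and_eq_true, eq3_iff, eq3_iff, eq3_iff, eq3_iff, M2.mk.injEq]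

/-! ### The group `SL₂(3) wr 2` -/

/-- elements of `SL₂(3) wr 2` -/
structure PE where
  x : M2
  y : M2
  s : Bool
  deriving DecidableEq

namespace PE

/-- product -/
def mul (p q : PE) : PE :=
  Bool.rec ⟨p.x.mul q.x, p.y.mul q.y, q.s⟩ ⟨p.x.mul q.y, p.y.mul q.x, not q.s⟩ p.s
/-- inverse -/
def inv (p : PE) : PE := Bool.rec ⟨p.x.inv, p.y.inv, false⟩ ⟨p.y.inv, p.x.inv, true⟩ p.s
/-- minus -/
def neg (p : PE) : PE := ⟨p.x.neg, p.y.neg, p.s⟩
/-- unit -/
def one : PE := ⟨M2.one, M2.one, false⟩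
/-- equality of the bits -/
def eqb (a b : Bool) : Bool := Bool.rec (not b) b a
/-- equality -/
def beq (p q : PE) : Bool := and (p.x.beq q.x) (and (p.y.beq q.y) (eqb p.s q.s))
/-- equality up to sign -/
def beqs (p q : PE) : Bool := or (p.beq q) (p.beq q.neg)

/-- determinants one -/
def Ok (p : PE) : Prop := p.x.det = 1 ∧ p.y.det = 1

theorem eqb_iff : ∀ a b : Bool, eqb a b = true ↔ a = b := by decide

theorem beq_iff (p q : PE) : p.beq q = true ↔ p = q := by
  obtain ⟨x, y, s⟩ := p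
  obtain ⟨x', y', s'⟩ := q
  show and (x.beq x') (and (y.beq y') (eqb s s')) = true ↔ _
  rw [Bool.and_eq_true, Bool.and_eq_true, M2.beq_iff, M2.beq_iff, eqb_iff, PE.mk.injEq]

/-- the swap matrix -/
noncomputable def sw (s : Bool) : Mat := if s then (m4 : Mat) else 1

theorem sf : sw false = 1 := by unfold sw; rw [if_neg Bool.false_ne_true]
theorem st : sw true = (m4 : Mat) := by unfold sw; rw [if_pos rfl]

/-- the block matrix -/
def bmm (x y : M2) : Mat := bm ![x.a, y.a] ![x.b, y.b] ![x.c, y.c] ![x.d, y.d]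

/-- the symplectic matrix -/
noncomputable def mat (p : PE) : Mat := bmm p.x p.y * sw p.s

theorem m4_sq : (m4 : Mat) * m4 = 1 := by decide +kernel

theorem vec_ext {f g : Fin 2 → F3} (h0 : f 0 = g 0) (h1 : f 1 = g 1) : f = g := by
  funext i
  fin_cases i
  · exact h0
  · exact h1

theorem bmm_mul (x y x' y' : M2) : bmm x y * bmm x' y' = bmm (x.mul x') (y.mul y') := by
  unfold bmm
  rw [bm_mul]
  congr 1 <;> apply vec_ext <;> rfl

theorem m4_bmm (x y : M2) : (m4 : Mat) * bmm x y = bmm y x * m4 := by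
  unfold bmm
  have h := Cfsg.Agent.OddHalf.Small.PSp43.m4_conj ![x.a, y.a] ![x.b, y.b] ![x.c, y.c] ![x.d, y.d]
  have h2 : (m4 : Mat) * bm ![x.a, y.a] ![x.b, y.b] ![x.c, y.c] ![x.d, y.d] =
      ((m4 : Mat) * bm ![x.a, y.a] ![x.b, y.b] ![x.c, y.c] ![x.d, y.d] * m4) * m4 := by
    rw [mul_assoc _ (m4 : Mat) (m4 : Mat), m4_sq, mul_one]
  rw [h2, h]
  congr 1

theorem mat_mul (p q : PE) : (p.mul q).mat = p.mat * q.mat := by
  obtain ⟨x, y, s⟩ := p
  obtain ⟨x', y', s'⟩ := q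
  cases s
  · show bmm (x.mul x') (y.mul y') * sw s' = bmm x y * sw false * (bmm x' y' * sw s')
    rw [sf, mul_one, ← mul_assoc, bmm_mul]
  · show bmm (x.mul y') (y.mul x') * sw (!s') = bmm x y * sw true * (bmm x' y' * sw s')
    have h2 : (m4 : Mat) * sw s' = sw (!s') := by
      cases s'
      · rw [sf, mul_one]; exact st.symm
      · rw [st, m4_sq]; exact sf.symm
    rw [st, mul_assoc, ← mul_assoc (m4 : Mat), m4_bmm, mul_assoc _ (m4 : Mat), h2, ← mul_assoc, bmm_mul]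

theorem bm_neg (a b c d : Fin 2 → F3) : bm (-a) (-b) (-c) (-d) = -(bm a b c d) := by
  unfold bm
  rw [fromBlocks_neg, diagonal_neg, diagonal_neg, diagonal_neg, diagonal_neg]
  rfl

theorem mat_neg (p : PE) : p.neg.mat = -p.mat := by
  have h : bmm p.x.neg p.y.neg = -(bmm p.x p.y) := by
    unfold bmm
    rw [← bm_neg]
    congr 1 <;> apply vec_ext <;> rfl
  show bmm p.x.neg p.y.neg * sw p.s = -(bmm p.x p.y * sw p.s)
  rw [h, neg_mul]

theorem bmm_one : bmm M2.one M2.one = 1 := by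
  unfold bmm
  rw [one_eq]
  congr 1 <;> apply vec_ext <;> rfl

theorem mat_one : one.mat = 1 := by
  show bmm M2.one M2.one * sw false = 1
  rw [sf, mul_one, bmm_one]

theorem det_mul (x y : M2) (h1 : x.det = 1) (h2 : y.det = 1) : (x.mul y).det = 1 := by
  obtain ⟨a, b, c, d⟩ := x
  obtain ⟨a', b', c', d'⟩ := y
  have h1' : a * d - b * c = 1 := h1
  have h2' : a' * d' - b' * c' = 1 := h2
  show (a * a' + b * c') * (c * b' + d * d') - (a * b' + b * d') * (c * a' + d * c') = 1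
  linear_combination (a' * d' - b' * c') * h1' + h2'

theorem det_inv (x : M2) (h1 : x.det = 1) : x.inv.det = 1 := by
  obtain ⟨a, b, c, d⟩ := x
  have h1' : a * d - b * c = 1 := h1
  show d * a - (-b) * (-c) = 1
  linear_combination h1'

theorem inv_mul (x : M2) (h1 : x.det = 1) : x.inv.mul x = M2.one := by
  obtain ⟨a, b, c, d⟩ := x
  have h1' : a * d - b * c = 1 := h1
  show (⟨d * a + (-b) * c, d * b + (-b) * d, (-c) * a + a * c, (-c) * b + a * d⟩ : M2) = ⟨1, 0, 0, 1⟩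
  have e1 : d * a + (-b) * c = 1 := by linear_combination h1'
  have e2 : d * b + (-b) * d = 0 := by ring
  have e3 : (-c) * a + a * c = 0 := by ring
  have e4 : (-c) * b + a * d = 1 := by linear_combination h1'
  rw [e1, e2, e3, e4]

theorem Ok.mul {p q : PE} (hp : p.Ok) (hq : q.Ok) : (p.mul q).Ok := by
  obtain ⟨x, y, s⟩ := p
  cases s
  · exact ⟨det_mul _ _ hp.1 hq.1, det_mul _ _ hp.2 hq.2⟩
  · exact ⟨det_mul _ _ hp.1 hq.2, det_mul _ _ hp.2 hq.1⟩

theorem Ok.inv {p : PE} (hp : p.Ok) : p.inv.Ok := by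
  obtain ⟨x, y, s⟩ := p
  cases s
  · exact ⟨det_inv _ hp.1, det_inv _ hp.2⟩
  · exact ⟨det_inv _ hp.2, det_inv _ hp.1⟩

theorem ok_one : one.Ok := ⟨by decide, by decide⟩

theorem inv_mul_self {p : PE} (hp : p.Ok) : p.inv.mul p = one := by
  obtain ⟨x, y, s⟩ := p
  cases s
  · show (⟨x.inv.mul x, y.inv.mul y, false⟩ : PE) = ⟨M2.one, M2.one, false⟩
    rw [inv_mul _ hp.1, inv_mul _ hp.2]
  · show (⟨y.inv.mul y, x.inv.mul x, false⟩ : PE) = ⟨M2.one, M2.one, false⟩
    rw [inv_mul _ hp.1, inv_mul _ hp.2]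

theorem bm_mem {a b c d : Fin 2 → F3} (h : ∀ i, a i * d i - b i * c i = 1) :
    bm a b c d ∈ Matrix.symplecticGroup (Fin 2) F3 := by
  rw [SymplecticGroup.mem_iff, J_eq, bm_transpose, bm_mul, bm_mul]
  congr 1 <;> funext i <;> have := h i <;>
    simp only [Pi.add_apply, Pi.mul_apply, Pi.zero_apply, Pi.one_apply, Pi.neg_apply]
  · ring
  · linear_combination -this
  · linear_combination this
  · ring

theorem mat_mem {p : PE} (hp : p.Ok) : p.mat ∈ Matrix.symplecticGroup (Fin 2) F3 := by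
  obtain ⟨x, y, s⟩ := p
  have h1 : bmm x y ∈ Matrix.symplecticGroup (Fin 2) F3 := by
    apply bm_mem
    intro i
    fin_cases i
    · exact hp.1
    · exact hp.2
  cases s
  · show bmm x y * sw false ∈ _
    rw [sf, mul_one]; exact h1
  · show bmm x y * sw true ∈ _
    rw [st]
    exact mul_mem h1 m4.2

/-- the element of `Sp₄(3)` -/
noncomputable def sp (p : PE) (hp : p.Ok) : Sp := ⟨p.mat, mat_mem hp⟩

open Classical in
/-- the element of `PSp₄(3)` (`1` if the determinants are wrong) -/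
noncomputable def el (p : PE) : PSp 2 F3 := if h : p.Ok then π (p.sp h) else 1

theorem el_eq {p : PE} (h : p.Ok) : p.el = π (p.sp h) := by
  unfold el; rw [dif_pos h]

theorem el_one : one.el = 1 := by
  rw [el_eq ok_one, ← π_one]
  exact π_eq (Or.inl mat_one)

theorem el_mul {p q : PE} (hp : p.Ok) (hq : q.Ok) : (p.mul q).el = p.el * q.el := by
  rw [el_eq hp, el_eq hq, el_eq (hp.mul hq), ← π_mul]
  exact π_eq (Or.inl (mat_mul p q))

theorem el_inv {p : PE} (hp : p.Ok) : p.inv.el = p.el⁻¹ := by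
  have h := el_mul hp.inv hp
  rw [inv_mul_self hp, el_one] at h
  exact (inv_eq_of_mul_eq_one_left h.symm).symm

theorem det_neg (x : M2) : x.neg.det = x.det := by
  obtain ⟨a, b, c, d⟩ := x
  show (-a) * (-d) - (-b) * (-c) = a * d - b * c
  ring

theorem Ok.neg {p : PE} (hp : p.Ok) : p.neg.Ok := ⟨(det_neg _).trans hp.1, (det_neg _).trans hp.2⟩

theorem el_neg {p : PE} (hp : p.Ok) : p.neg.el = p.el := by
  rw [el_eq hp, el_eq hp.neg]
  exact π_eq (Or.inr (mat_neg p))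

theorem bmm_inj {x y x' y' : M2} (e : bmm x y = bmm x' y') : x = x' ∧ y = y' := by
  obtain ⟨h1, h2, h3, h4⟩ := bm_inj e
  obtain ⟨a, b, c, d⟩ := x
  obtain ⟨a', b', c', d'⟩ := y
  obtain ⟨a1, b1, c1, d1⟩ := x'
  obtain ⟨a2, b2, c2, d2⟩ := y'
  have e1 : a = a1 := congrFun h1 0
  have e2 : a' = a2 := congrFun h1 1
  have e3 : b = b1 := congrFun h2 0
  have e4 : b' = b2 := congrFun h2 1
  have e5 : c = c1 := congrFun h3 0
  have e6 : c' = c2 := congrFun h3 1
  have e7 : d = d1 := congrFun h4 0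
  have e8 : d' = d2 := congrFun h4 1
  rw [e1, e2, e3, e4, e5, e6, e7, e8]
  exact ⟨rfl, rfl⟩

theorem bmm_m4 (x y : M2) : (bmm x y * (m4 : Mat)) (.inl 0) (.inl 0) = 0 ∧
    (bmm x y * (m4 : Mat)) (.inl 0) (.inr 0) = 0 := by
  obtain ⟨a, b, c, d⟩ := x
  obtain ⟨a', b', c', d'⟩ := y
  unfold bmm bm
  rw [m4_eq, fromBlocks_multiply]
  constructor
  · rw [fromBlocks_apply₁₁]
    simp [Pm, Matrix.mul_apply, Fin.sum_univ_two, diagonal]
  · rw [fromBlocks_apply₁₂]
    simp [Pm, Matrix.mul_apply, Fin.sum_univ_two, diagonal]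

theorem bmm_ne {x y x' y' : M2} (hx : x.det = 1) (e : bmm x y = bmm x' y' * (m4 : Mat)) : False := by
  obtain ⟨h1, h2⟩ := bmm_m4 x' y'
  rw [← e] at h1 h2
  obtain ⟨a, b, c, d⟩ := x
  have g1 : a = 0 := h1
  have g2 : b = 0 := h2
  have hx' : a * d - b * c = 1 := hx
  rw [g1, g2, zero_mul, zero_mul, sub_zero] at hx'
  exact absurd hx' (by decide)

/-- entries of the matrix -/
theorem mat_inj {p q : PE} (h : p.mat = q.mat) (hp : p.Ok) (hq : q.Ok) : p = q := by
  obtain ⟨x, y, s⟩ := p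
  obtain ⟨x', y', s'⟩ := q
  have h' : bmm x y * sw s = bmm x' y' * sw s' := h
  cases s <;> cases s'
  · rw [sf, mul_one, mul_one] at h'
    obtain ⟨rfl, rfl⟩ := bmm_inj h'
    rfl
  · rw [sf, st, mul_one] at h'
    exact (bmm_ne hp.1 h').elim
  · rw [sf, st, mul_one] at h'
    exact (bmm_ne hq.1 h'.symm).elim
  · rw [st] at h'
    have h2 := congrArg (· * (m4 : Mat)) h'
    simp only [mul_assoc, m4_sq, mul_one] at h2
    obtain ⟨rfl, rfl⟩ := bmm_inj h2
    rfl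

/-- **Equality of elements is decided by `beqs`.** -/
theorem el_eq_iff {p q : PE} (hp : p.Ok) (hq : q.Ok) : p.el = q.el ↔ p.beqs q = true := by
  unfold beqs
  rw [Bool.or_eq_true, beq_iff, beq_iff]
  constructor
  · intro h
    rw [el_eq hp, el_eq hq] at h
    rcases eq_or_of_π_eq h with h1 | h1
    · exact Or.inl (mat_inj h1 hp hq)
    · right
      refine mat_inj ?_ hp hq.neg
      rw [mat_neg]; exact h1
  · rintro (rfl | rfl)
    · rfl
    · exact el_neg hq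

/-- the element `z` -/
def zz : PE := ⟨M2.one, M2.one.neg, false⟩
/-- the element `v` -/
def vv : PE := ⟨M2.one, M2.one, true⟩

theorem ok_zz : zz.Ok := ⟨by decide, by decide⟩
theorem ok_vv : vv.Ok := ⟨by decide, by decide⟩

theorem el_zz : zz.el = π m3 := by
  rw [el_eq ok_zz]
  refine π_eq (Or.inl ?_)
  show bmm M2.one M2.one.neg * sw false = m3
  rw [sf, mul_one, m3_eq]
  unfold bmm
  congr 1 <;> apply vec_ext <;> rfl

theorem el_vv : vv.el = π m4 := by
  rw [el_eq ok_vv]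
  refine π_eq (Or.inl ?_)
  show bmm M2.one M2.one * sw true = m4
  rw [st, bmm_one, one_mul]

theorem exists_pe_of_comm {g : Sp} (h : (g : Mat) * m3 = m3 * (g : Mat)) :
    ∃ p : PE, p.Ok ∧ (g : Mat) = p.mat ∧ p.s = false := by
  obtain ⟨a, b, c, d, hg⟩ := exists_bm h
  have hdet : ∀ i, a i * d i - b i * c i = 1 := det_of_mem (hg ▸ g.2)
  refine ⟨⟨⟨a 0, b 0, c 0, d 0⟩, ⟨a 1, b 1, c 1, d 1⟩, false⟩, ⟨hdet 0, hdet 1⟩, ?_, rfl⟩
  show (g : Mat) = bmm ⟨a 0, b 0, c 0, d 0⟩ ⟨a 1, b 1, c 1, d 1⟩ * sw false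
  rw [sf, mul_one, hg]
  unfold bmm
  congr 1 <;> apply vec_ext <;> rfl

/-- **Every element of `C(z)` is some `el p`.** -/
theorem exists_pe {g : PSp 2 F3} (h : g * zz.el = zz.el * g) : ∃ p : PE, p.Ok ∧ g = p.el := by
  rw [el_zz] at h
  obtain ⟨g, rfl⟩ := QuotientGroup.mk_surjective g
  have h0 : π g * π m3 = π m3 * π g := h
  rcases comm_or h0 with h1 | h1
  · obtain ⟨p, hp, hg, -⟩ := exists_pe_of_comm h1
    refine ⟨p, hp, ?_⟩
    rw [el_eq hp]
    exact π_eq (Or.inl hg)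
  · have h2 : ((m4 * g : Sp) : Mat) * m3 = m3 * ((m4 * g : Sp) : Mat) := by
      show (m4 : Mat) * g * m3 = m3 * (m4 * g)
      rw [mul_assoc, h1, mul_neg, ← mul_assoc, m43, neg_mul, neg_neg, mul_assoc]
    obtain ⟨p, hp, hg, -⟩ := exists_pe_of_comm h2
    refine ⟨vv.mul p, ok_vv.mul hp, ?_⟩
    rw [el_mul ok_vv hp, el_vv, el_eq hp, ← π_mul]
    refine π_eq (Or.inl ?_)
    show (g : Mat) = (m4 : Mat) * p.mat
    rw [← hg]
    show (g : Mat) = (m4 : Mat) * ((m4 : Mat) * g)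
    rw [← mul_assoc, m4_sq, one_mul]

theorem M2_mul_one (x : M2) : x.mul M2.one = x := by
  obtain ⟨a, b, c, d⟩ := x
  show (⟨a * 1 + b * 0, a * 0 + b * 1, c * 1 + d * 0, c * 0 + d * 1⟩ : M2) = ⟨a, b, c, d⟩
  simp only [mul_one, mul_zero, add_zero, zero_add]

theorem M2_one_mul (x : M2) : M2.one.mul x = x := by
  obtain ⟨a, b, c, d⟩ := x
  show (⟨1 * a + 0 * c, 1 * b + 0 * d, 0 * a + 1 * c, 0 * b + 1 * d⟩ : M2) = ⟨a, b, c, d⟩
  simp only [one_mul, zero_mul, add_zero, zero_add]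

theorem M2_mul_neg_one (x : M2) : x.mul M2.one.neg = x.neg := by
  obtain ⟨a, b, c, d⟩ := x
  show (⟨a * -1 + b * -0, a * -0 + b * -1, c * -1 + d * -0, c * -0 + d * -1⟩ : M2) = ⟨-a, -b, -c, -d⟩
  simp only [mul_neg, mul_one, neg_zero, mul_zero, add_zero, zero_add]

theorem M2_neg_one_mul (x : M2) : M2.one.neg.mul x = x.neg := by
  obtain ⟨a, b, c, d⟩ := x
  show (⟨-1 * a + -0 * c, -1 * b + -0 * d, -0 * a + -1 * c, -0 * b + -1 * d⟩ : M2) = ⟨-a, -b, -c, -d⟩
  simp only [neg_mul, one_mul, neg_zero, zero_mul, add_zero, zero_add]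

theorem M2_neg_neg (x : M2) : x.neg.neg = x := by
  obtain ⟨a, b, c, d⟩ := x
  show (⟨- -a, - -b, - -c, - -d⟩ : M2) = ⟨a, b, c, d⟩
  simp only [neg_neg]

theorem comm_zz {p : PE} (hp : p.Ok) : p.el * zz.el = zz.el * p.el := by
  rw [← el_mul hp ok_zz, ← el_mul ok_zz hp, el_eq_iff (hp.mul ok_zz) (ok_zz.mul hp)]
  unfold beqs
  rw [Bool.or_eq_true, beq_iff, beq_iff]
  obtain ⟨x, y, s⟩ := p
  cases s
  · left
    show (⟨x.mul M2.one, y.mul M2.one.neg, false⟩ : PE) = ⟨M2.one.mul x, M2.one.neg.mul y, false⟩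
    rw [M2_mul_one, M2_one_mul, M2_mul_neg_one, M2_neg_one_mul]
  · right
    show (⟨x.mul M2.one.neg, y.mul M2.one, true⟩ : PE) = ⟨(M2.one.mul x).neg, (M2.one.neg.mul y).neg, true⟩
    rw [M2_mul_one, M2_one_mul, M2_mul_neg_one, M2_neg_one_mul, M2_neg_neg]

end PE

end Cfsg.Agent.KFacts.PSpFourThree
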